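import Cfsg.Agent.Lib.Suz.ThreeFive

/-!
The subgroup of order 243 inside a chosen Sylow subgroup, in any isomorphic copy of the presented
Suzuki group.
-/

set_option autoImplicit false
set_option maxRecDepth 100000
set_option linter.style.haveILetI false

namespace CfsgLib.Suz.ThreeFive

open CfsgLib.PresCert

/-- The word of the element of order three. -/
def xWd : List ℕ := repWord 5 [3, 2, 3, 2, 1]

/-- The element of order three. -/
def xEl : Cfsg.Spor.Suz := act suzGen xWd

theorem sG_norm : sG.all (fun g => eqS (g.reverse ++ xWd ++ g) xWd || eqS (g.reverse ++ xWd ++ g) xWd.reverse) = true ∧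
    sG.all (fun g => g.all fun x => Nat.blt x 7) = true ∧ xWd.all (fun x => Nat.blt x 7) = true := by
  decide +kernel

theorem H_le : genGrp sG suzGen ≤ Subgroup.normalizer (Subgroup.zpowers xEl : Set Cfsg.Spor.Suz) := by
  haveI := card_suz.1
  rw [genGrp, Subgroup.closure_le]
  rintro _ ⟨w, hw, rfl⟩
  obtain ⟨h, hs, hx⟩ := sG_norm
  simp only [List.all_eq_true, Bool.or_eq_true, Nat.blt_eq] at h hs hx
  have hwlt : ∀ g ∈ w, g < tab.ng := fun g hg => ng_eq ▸ hs w hw g hg
  have hxlt : ∀ g ∈ xWd, g < tab.ng := fun g hg => ng_eq ▸ hx g hg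
  refine mem_normalizer_of fun a ha => conj_pow_mem ?_ ha
  rcases h w hw with e | e
  · have e' := (eqS_iff (lt_append (lt_append (lt_rev hwlt) hxlt) hwlt) hxlt).1 e
    rw [conj_word hwlt] at e'
    rw [show xEl = act suzGen xWd from rfl, e']
    exact Subgroup.mem_zpowers _
  · have e' := (eqS_iff (lt_append (lt_append (lt_rev hwlt) hxlt) hwlt) (lt_rev hxlt)).1 e
    rw [conj_word hwlt, act_reverse (fun g hg => suzGen_sq g (ng_eq ▸ hg)) hxlt] at e'
    rw [show xEl = act suzGen xWd from rfl, e']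
    exact Subgroup.inv_mem _ (Subgroup.mem_zpowers _)

theorem A_le_H : Asub ≤ genGrp sG suzGen := by
  rw [Asub, genGrp, Subgroup.closure_le]
  rintro _ ⟨w, hw, rfl⟩
  have h : aWords.all (fun w => w.all fun g => Nat.blt g 7 && !(Nat.beq g 4)) = true := by decide +kernel
  simp only [List.all_eq_true, Bool.and_eq_true, Nat.blt_eq, Bool.not_eq_true'] at h
  have hh := h w hw
  clear hw
  induction w with
  | nil => rw [act_nil]; exact Subgroup.one_mem _
  | cons g w ih =>
    rw [act_cons]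
    refine Subgroup.mul_mem _ (ih fun x hx => hh x (List.mem_cons_of_mem _ hx))
      (Subgroup.subset_closure ⟨[g], ?_, by rw [act_cons, act_nil, one_mul]⟩)
    obtain ⟨h1, h2⟩ := hh g List.mem_cons_self
    exact sG_eq g h1 fun e => by simp [e] at h2

variable {G : Type*} [Group G] [Finite G]

theorem map_centralizer_equiv {H : Type*} [Group H] (ψ : H ≃* G) (S : Subgroup H) :
    Subgroup.centralizer ((S.map ψ.toMonoidHom : Subgroup G) : Set G) =
      (Subgroup.centralizer (S : Set H)).map ψ.toMonoidHom := by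
  ext g
  simp only [Subgroup.mem_map_equiv, Subgroup.mem_centralizer_iff, SetLike.mem_coe]
  constructor
  · intro h x hx
    have := h (ψ x) (by simpa using hx)
    simpa using congrArg ψ.symm this
  · intro h x hx
    have := h (ψ.symm x) hx
    simpa using congrArg ψ this

theorem map_normalizer_equiv {H : Type*} [Group H] (ψ : H ≃* G) (S : Subgroup H) :
    Subgroup.normalizer ((S.map ψ.toMonoidHom : Subgroup G) : Set G) =
      (Subgroup.normalizer (S : Set H)).map ψ.toMonoidHom :=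
  (Subgroup.map_equiv_normalizer_eq S ψ).symm

theorem transfer_aux (hN : Subgroup.normalizer (Subgroup.zpowers xEl : Set Cfsg.Spor.Suz) ≤ genGrp sG suzGen)
    (φ : Cfsg.Spor.Suz ≃* G) (N : Subgroup G) (hNH : N = (genGrp sG suzGen).map φ.toMonoidHom)
    (P : Sylow 3 N) :
    ¬ 3 ∣ ((P : Subgroup N).map (Subgroup.subtype N)).index ∧
      ∃ A : Subgroup G, A ≤ (P : Subgroup N).map (Subgroup.subtype N) ∧
        Cfsg.IsElementaryAbelian 3 A ∧ Nat.card A = 3 ^ 5 ∧ Subgroup.centralizer (A : Set G) = A ∧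
        ∃ _ : (A.subgroupOf (Subgroup.normalizer (A : Set G))).Normal,
          Cfsg.Spor.IsoM11 (↥(Subgroup.normalizer (A : Set G)) ⧸
            A.subgroupOf (Subgroup.normalizer (A : Set G))) := by
  haveI := card_suz.1
  haveI : Fact (Nat.Prime 3) := ⟨Nat.prime_three⟩
  have hcN : Nat.card N = 19595520 := by
    rw [hNH, Subgroup.card_map_of_injective φ.injective, six_card]
  have hcG : Nat.card G = 448345497600 := by rw [← Nat.card_congr φ.toEquiv, card_suz.2]
  have hfac : ∀ n : ℕ, n ≠ 0 → 3 ^ 7 ∣ n → ¬ 3 ^ 8 ∣ n → n.factorization 3 = 7 := fun n hn h1 h2 => by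
    have a1 := (Nat.prime_three.pow_dvd_iff_le_factorization hn).1 h1
    have a2 := mt (Nat.prime_three.pow_dvd_iff_le_factorization hn).2 h2
    omega
  set P' := (P : Subgroup N).map (Subgroup.subtype N) with hP'
  have hcP : Nat.card P' = 3 ^ 7 := by
    rw [hP', Subgroup.card_map_of_injective (Subgroup.subtype_injective _), P.card_eq_multiplicity, hcN,
      hfac 19595520 (by norm_num) (by norm_num) (by norm_num)]
  refine ⟨fun h3 => ?_, ?_⟩
  · have h := Subgroup.card_mul_index P'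
    rw [hcP, hcG] at h
    obtain ⟨k, hk⟩ := h3
    rw [hk] at h
    omega
  -- a Sylow subgroup of the normaliser containing the image of the subgroup
  set A₀ : Subgroup G := Asub.map φ.toMonoidHom with hA₀
  have hA₀N : A₀ ≤ N := hNH ▸ Subgroup.map_mono A_le_H
  have hp : IsPGroup 3 (A₀.subgroupOf N) := IsPGroup.of_card (n := 5) (by
    rw [Nat.card_congr (Subgroup.subgroupOfEquivOfLe hA₀N).toEquiv, hA₀,
      Subgroup.card_map_of_injective φ.injective, card_A]; norm_num)
  obtain ⟨P₀, hP₀⟩ := hp.exists_le_sylow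
  obtain ⟨g, hg⟩ := MulAction.exists_smul_eq N P₀ P
  set ψ : Cfsg.Spor.Suz ≃* G := φ.trans (MulAut.conj (g : G)) with hψ
  set A : Subgroup G := Asub.map ψ.toMonoidHom with hA
  obtain ⟨hel, hcard, hcent, hnorm, hM⟩ := main hN
  refine ⟨A, ?_, ⟨?_, ?_⟩, ?_, ?_, ?_⟩
  · rintro _ ⟨a, ha, rfl⟩
    have ha₀ : φ a ∈ A₀ := Subgroup.mem_map_of_mem _ ha
    have h1 : (⟨φ a, hA₀N ha₀⟩ : N) ∈ (P₀ : Subgroup N) := hP₀ (Subgroup.mem_subgroupOf.2 ha₀)
    refine ⟨g * ⟨φ a, hA₀N ha₀⟩ * g⁻¹, ?_, by simp [hψ]⟩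
    rw [← hg]
    exact ⟨_, h1, rfl⟩
  · exact ⟨⟨fun a b => by
      obtain ⟨_, x, hx, rfl⟩ := a
      obtain ⟨_, y, hy, rfl⟩ := b
      exact Subtype.ext (show ψ x * ψ y = ψ y * ψ x by rw [← map_mul, A_comm hx hy, map_mul])⟩⟩
  · rintro _ ⟨x, hx, rfl⟩
    show ψ x ^ 3 = 1
    rw [← map_pow, A_cube hx, map_one]
  · rw [hA, Subgroup.card_map_of_injective ψ.injective, hcard]
  · rw [hA, map_centralizer_equiv, hcent]
  · have hmn : Subgroup.normalizer (A : Set G) = (Subgroup.normalizer (Asub : Set Cfsg.Spor.Suz)).map ψ.toMonoidHom := by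
      rw [hA, map_normalizer_equiv]
    let e : ↥(Subgroup.normalizer (Asub : Set Cfsg.Spor.Suz)) ≃* ↥(Subgroup.normalizer (A : Set G)) :=
      (ψ.subgroupMap _).trans (MulEquiv.subgroupCongr hmn.symm)
    haveI := hnorm
    have hn : (A.subgroupOf (Subgroup.normalizer (A : Set G))).Normal := Subgroup.normal_in_normalizer
    refine ⟨hn, ?_⟩
    obtain ⟨i⟩ := hM
    refine ⟨(QuotientGroup.congr _ _ e ?_).symm.trans i⟩
    ext x
    constructor
    · rintro ⟨w, hw, rfl⟩
      exact Subgroup.mem_subgroupOf.2 ⟨w, Subgroup.mem_subgroupOf.1 hw, rfl⟩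
    · intro hx
      obtain ⟨w, hw, ew⟩ := Subgroup.mem_subgroupOf.1 hx
      refine ⟨⟨w, Subgroup.le_normalizer hw⟩, Subgroup.mem_subgroupOf.2 hw, Subtype.ext ?_⟩
      exact ew

/-- In a copy of the Suzuki group every Sylow 3-subgroup of the normaliser of the subgroup of order
three is a Sylow 3-subgroup and contains a suitable subgroup of order 243. -/
theorem transfer (hN : Subgroup.normalizer (Subgroup.zpowers xEl : Set Cfsg.Spor.Suz) ≤ genGrp sG suzGen)
    (φ : Cfsg.Spor.Suz ≃* G) (X : Subgroup G) (hX : (Subgroup.zpowers xEl).map φ.toMonoidHom = X)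
    (P : Sylow 3 ↥(Subgroup.normalizer (X : Set G))) :
    ¬ 3 ∣ ((P : Subgroup ↥(Subgroup.normalizer (X : Set G))).map
        (Subgroup.subtype (Subgroup.normalizer (X : Set G)))).index ∧
      ∃ A : Subgroup G, A ≤ (P : Subgroup ↥(Subgroup.normalizer (X : Set G))).map
          (Subgroup.subtype (Subgroup.normalizer (X : Set G))) ∧
        Cfsg.IsElementaryAbelian 3 A ∧ Nat.card A = 3 ^ 5 ∧ Subgroup.centralizer (A : Set G) = A ∧
        ∃ _ : (A.subgroupOf (Subgroup.normalizer (A : Set G))).Normal,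
          Cfsg.Spor.IsoM11 (↥(Subgroup.normalizer (A : Set G)) ⧸
            A.subgroupOf (Subgroup.normalizer (A : Set G))) :=
  transfer_aux hN φ _ (by rw [← hX, map_normalizer_equiv, le_antisymm hN H_le]) P

end CfsgLib.Suz.ThreeFive
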