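import Cfsg.Agent.Lib.PresCert.Bound
import Cfsg.Agent.Lib.Suz.DataE
import Cfsg.Agent.Lib.Suz.DataF
import Cfsg.Agent.Lib.Suz.DataG

/-!
Kernel checks of the certificates.
-/

set_option autoImplicit false
set_option maxRecDepth 100000

namespace CfsgLib.Suz

open CfsgLib.PresCert

theorem certE_block0 : block certE 0 = true := by decide +kernel

theorem certE_closedBlock0 : closedBlock certE [[1], [5], [6]] 0 = true := by decide +kernel

theorem certE_shape : shapeOk certE = true ∧ ([[1], [5], [6]] : List (List ℕ)).all (fun w => w.all fun g => Nat.blt g certE.ng) = true := by
  decide +kernel

theorem certE_closed : Closed certE [[1], [5], [6]] where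
  shape := certE_shape.1
  slots b hb := by
    have h : certE.N = 512 := rfl
    obtain rfl : b = 0 := by omega
    exact certE_block0
  words := certE_shape.2
  closed b hb := by
    have h : certE.n = 360 := rfl
    obtain rfl : b = 0 := by omega
    exact certE_closedBlock0

theorem certF_block0 : block certF 0 = true := by decide +kernel

theorem certF_closedBlock0 : closedBlock certF [[0], [1], [2], [5], [6]] 0 = true := by decide +kernel

theorem certF_shape : shapeOk certF = true ∧ ([[0], [1], [2], [5], [6]] : List (List ℕ)).all (fun w => w.all fun g => Nat.blt g certF.ng) = true := by
  decide +kernel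

theorem certF_closed : Closed certF [[0], [1], [2], [5], [6]] where
  shape := certF_shape.1
  slots b hb := by
    have h : certF.N = 512 := rfl
    obtain rfl : b = 0 := by omega
    exact certF_block0
  words := certF_shape.2
  closed b hb := by
    have h : certF.n = 56 := rfl
    obtain rfl : b = 0 := by omega
    exact certF_closedBlock0

theorem certG_block0 : block certG 0 = true := by decide +kernel

theorem certG_block1 : block certG 1 = true := by decide +kernel

theorem certG_block2 : block certG 2 = true := by decide +kernel

theorem certG_closedBlock0 : closedBlock certG [[0], [1], [2], [3], [5], [6]] 0 = true := by decide +kernel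

theorem certG_shape : shapeOk certG = true ∧ ([[0], [1], [2], [3], [5], [6]] : List (List ℕ)).all (fun w => w.all fun g => Nat.blt g certG.ng) = true := by
  decide +kernel

theorem certG_closed : Closed certG [[0], [1], [2], [3], [5], [6]] where
  shape := certG_shape.1
  slots b hb := by
    have h : certG.N = 2560 := rfl
    obtain rfl | rfl | rfl : b = 0 ∨ b = 1 ∨ b = 2 := by omega
    exacts [certG_block0, certG_block1, certG_block2]
  words := certG_shape.2
  closed b hb := by
    have h : certG.n = 972 := rfl
    obtain rfl : b = 0 := by omega
    exact certG_closedBlock0

end CfsgLib.Suz
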