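import Cfsg.Agent.Lib.Suz.Perm
import Cfsg.Agent.Lib.Suz.CheckEFG

/-!
Two printed subgroups of the presented Suzuki group.
-/

set_option autoImplicit false
set_option maxRecDepth 100000

namespace CfsgLib.Suz

open CfsgLib.PresCert Cfsg.Spor

theorem printed_eq :
    (Subgroup.closure ({Suz.a, Suz.b, Suz.c, Suz.d, Suz.e, Suz.f} : Set (FreeGroup Suz.Gen))).map
      (PresentedGroup.mk (coxRelators Suz.edges ∪ {r | r ∈ Suz.extra})) = subH := by
  have hset : ({Suz.a, Suz.b, Suz.c, Suz.d, Suz.e, Suz.f} : Set (FreeGroup Suz.Gen)) =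
      {r | r ∈ ([.a, .b, .c, .d, .e, .f] : List Suz.Gen).map FreeGroup.of} := by
    ext r
    simp
  rw [hset]
  exact CoxData.map_closure (P := suzData) suz_ok [.a, .b, .c, .d, .e, .f]

/-- The words of the six generators other than the fifth. -/
def sG : List (List ℕ) := [[0], [1], [2], [3], [5], [6]]

theorem printed_eq_six :
    (Subgroup.closure ({Suz.a, Suz.b, Suz.c, Suz.d, Suz.f, Suz.g} : Set (FreeGroup Suz.Gen))).map
      (PresentedGroup.mk (coxRelators Suz.edges ∪ {r | r ∈ Suz.extra})) = genGrp sG suzGen := by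
  have hset : ({Suz.a, Suz.b, Suz.c, Suz.d, Suz.f, Suz.g} : Set (FreeGroup Suz.Gen)) =
      {r | r ∈ ([.a, .b, .c, .d, .f, .g] : List Suz.Gen).map FreeGroup.of} := by
    ext r
    simp
  rw [hset]
  exact CoxData.map_closure (P := suzData) suz_ok [.a, .b, .c, .d, .f, .g]

/-- A further relation. -/
def extraWord : List ℕ :=
  [1, 2, 5, 6, 5, 1, 2, 5, 6, 5, 1, 2, 5, 6, 5, 1, 2, 5, 6, 5, 1, 2, 5, 6, 5]

theorem extra_fix : twoBlocks (tab.fixBlock extraWord) = true ∧
    extraWord.all (fun g => Nat.blt g tab.ng) = true := by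
  decide +kernel

theorem extra_one : act suzGen extraWord = 1 := by
  refine phi_injective ?_
  rw [map_one]
  refine Equiv.ext fun i => Fin.ext ?_
  have h := extra_fix.2
  simp only [List.all_eq_true, Nat.blt_eq] at h
  rw [realised.act_apply h i, Equiv.Perm.one_apply]
  exact Tab.Fix.spec (fun _ hb => two_blocks extra_fix.1 hb) i.isLt

theorem all_rels : ∀ w ∈ suzData.rels ++ [extraWord], act suzGen w = 1 := by
  intro w hw
  rcases List.mem_append.1 hw with hw | hw
  · exact CoxData.rels_act suz_ok w hw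
  · rw [List.mem_singleton.1 hw]; exact extra_one

theorem certE_words : relsOk certE (suzData.rels ++ [extraWord]) = true ∧
    subsOk certE [] (16 * certE.words.length) = true ∧ certE.ng = 7 ∧ certE.n = 360 := by
  decide +kernel

theorem certF_words : relsOk certF (suzData.rels ++ [extraWord]) = true ∧
    subsOk certF [[1], [5], [6]] (16 * certF.words.length) = true ∧ certF.ng = 7 ∧
    certF.n = 56 := by
  decide +kernel

theorem certG_words : relsOk certG (suzData.rels ++ [extraWord]) = true ∧
    subsOk certG [[0], [1], [2], [5], [6]] (16 * certG.words.length) = true ∧ certG.ng = 7 ∧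
    certG.n = 972 := by
  decide +kernel

theorem six_le : Nat.card (genGrp sG suzGen) ≤ 19595520 := by
  obtain ⟨a1, a2, a3, a4⟩ := certE_words
  obtain ⟨b1, b2, b3, b4⟩ := certF_words
  obtain ⟨c1, c2, c3, c4⟩ := certG_words
  have hE := step (b := 360) certE_closed a3 all_rels a1 a2 triv_le (by rw [a4])
  have hF := step (S := [[1], [5], [6]]) (b := 20160) certF_closed b3 all_rels b1 b2 hE (by rw [b4])
  exact (step (S := [[0], [1], [2], [5], [6]]) (b := 19595520) certG_closed c3 all_rels c1 c2 hF
    (by rw [c4])).2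

/-- The generators of the subgroup, numbered from zero. -/
def sixGen (g : ℕ) : genGrp sG suzGen :=
  if h : g < 6 then ⟨act suzGen (sG.getD g []), Subgroup.subset_closure ⟨_, by
    rw [List.getD_eq_getElem _ _ (show g < sG.length from h)]; exact List.getElem_mem _, rfl⟩⟩
  else 1

/-- The numbers of the six generators. -/
def sixIx (g : ℕ) : ℕ := if g < 4 then g else g + 1

theorem six_card : Nat.card (genGrp sG suzGen) = 19595520 := by
  haveI := card_suz.1
  refine le_antisymm six_le ?_
  let φ : genGrp sG suzGen →* Equiv.Perm (Fin tab6.n) := phi.comp (Subgroup.subtype _)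
  have key : ∀ g, g < 6 → ∀ i, tab6.img g i = tab.img (sixIx g) i ∧ sixIx g < tab.ng ∧
      (sixGen g : Cfsg.Spor.Suz) = suzGen (sixIx g) := by
    intro g hg i
    have e : (sixGen g : Cfsg.Spor.Suz) = act suzGen (sG.getD g []) := by
      rw [sixGen, dif_pos hg]
    rw [e]
    interval_cases g <;> exact ⟨rfl, by decide, by rw [sG]; simp [sixIx, act_cons, act_nil]⟩
  have R : Realised sixGen tab6 φ := by
    refine ⟨fun g i hg hi => ?_, fun g hg i => ?_⟩
    · obtain ⟨e1, e2, -⟩ := key g (tab_levelsF.2.2 ▸ hg) i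
      rw [e1]
      exact (tabInv.spec e2 hi).1
    · obtain ⟨e1, e2, e3⟩ := key g (tab_levelsF.2.2 ▸ hg) i.val
      show ((phi (sixGen g : Cfsg.Spor.Suz) i : Fin tab.n) : ℕ) = _
      rw [e1, e3]
      exact realised.app _ e2 i
  have h := card_lower R tab_levelsF.1
  rw [tab_levelsF.2.1, fixSub_nil, Subgroup.card_top] at h
  exact le_trans (Nat.le_mul_of_pos_right _ Nat.card_pos) h

theorem index_six : (genGrp sG suzGen).index = 22880 := by
  haveI := card_suz.1
  have h := (genGrp sG suzGen).card_mul_index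
  rw [six_card, card_suz.2] at h
  omega

end CfsgLib.Suz
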