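import Cfsg.Agent.Lib.Suz.Perm
import Cfsg.Agent.Lib.Suz.CentData
import Cfsg.Agent.Lib.PresCert.Chain
import Cfsg.Agent.Lib.LeechPSU.Perm

/-!
Lower bounds for the centralisers of two generators of the presented Suzuki group.
-/

set_option autoImplicit false
set_option maxRecDepth 100000

namespace CfsgLib.Suz

open CfsgLib.PresCert

/-- A subgroup is at least as large as the orbit lengths along a base with words in it. -/
theorem card_lower_sub {T : Tab} {M : Type*} [Group M] [Finite M] {gen : ℕ → M}
    {φ : M →* Equiv.Perm (Fin T.n)} (R : Realised gen T φ) {S : Subgroup M} :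
    ∀ {fixed : List ℕ} {ls : List Level}, levelsOk T fixed ls = true →
      (∀ l ∈ ls, ∀ w ∈ l.gens, act gen w ∈ S) →
      (ls.map fun l => l.pts.length).prod ≤ Nat.card ↥(S ⊓ fixSub φ fixed)
  | fixed, [], _, _ => by rw [List.map_nil, List.prod_nil]; exact Nat.card_pos
  | fixed, l :: ls, h, hg => by
    simp only [levelsOk, Bool.and_eq_true] at h
    obtain ⟨hl, hls⟩ := h
    have ih := card_lower_sub R hls fun l' hl' => hg l' (List.mem_cons_of_mem _ hl')
    rw [List.map_cons, List.prod_cons]
    refine le_trans (Nat.mul_le_mul_left _ ih) ?_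
    have hspec := level_spec R hl
    have hwS : ∀ fu k, act gen (l.word fu k) ∈ S := by
      intro fu
      induction fu with
      | zero => intro k; simp [Level.word, act_nil]
      | succ fu ih' =>
        intro k
        simp only [Level.word]
        split_ifs
        · simp [act_nil]
        · rw [act_append]
          refine Subgroup.mul_mem _ ?_ (ih' _)
          by_cases hc : (l.par.getD (k - 1) (0, 0)).1 < l.gens.length
          · rw [List.getD_eq_getElem _ _ hc]
            exact hg l List.mem_cons_self _ (List.getElem_mem hc)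
          · rw [List.getD_eq_default _ _ (Nat.le_of_not_lt hc), act_nil]
            exact Subgroup.one_mem _
    simp only [levelOk, Bool.and_eq_true, List.all_eq_true, Nat.blt_eq, decide_eq_true_eq] at hl
    obtain ⟨⟨⟨⟨⟨-, hhead⟩, -⟩, -⟩, hlt⟩, hnd'⟩ := hl
    have hnd := (nodupB_spec hnd').1
    have hb : l.base < T.n := hlt _ (List.mem_of_mem_head? hhead)
    let t : Fin l.pts.length → M := fun k => act gen (l.word (k.val + 1) k.val)
    have ht : ∀ k : Fin l.pts.length,
        ((φ (t k) ⟨l.base, hb⟩ : Fin T.n) : ℕ) = l.pts[k.val] := fun k => by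
      obtain ⟨w1, -, w3⟩ := hspec k.val k.isLt (k.val + 1) (Nat.lt_succ_self _)
      show ((φ (act gen _) ⟨l.base, hb⟩ : Fin T.n) : ℕ) = _
      rw [R.act_apply w1, w3, List.getD_eq_getElem _ _ k.isLt]
    let f : Fin l.pts.length × ↥(S ⊓ fixSub φ (fixed ++ [l.base])) → ↥(S ⊓ fixSub φ fixed) :=
      fun p => ⟨t p.1 * p.2.val, Subgroup.mem_inf.2
        ⟨S.mul_mem (hwS _ _) (Subgroup.mem_inf.1 p.2.2).1,
          Subgroup.mul_mem _ (hspec p.1.val p.1.isLt (p.1.val + 1) (Nat.lt_succ_self _)).2.1
            (fixSub_le (fun x hx => List.mem_append_left _ hx) (Subgroup.mem_inf.1 p.2.2).2)⟩⟩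
    have hf : Function.Injective f := by
      rintro ⟨a, m⟩ ⟨b, m'⟩ e
      have e' : t a * m.val = t b * m'.val := congrArg Subtype.val e
      have hfix : ∀ x : ↥(S ⊓ fixSub φ (fixed ++ [l.base])), φ x.val ⟨l.base, hb⟩ = ⟨l.base, hb⟩ :=
        fun x => (Subgroup.mem_inf.1 x.2).2 _ (List.mem_append_right _ (List.mem_singleton_self _))
      have e1 := congrArg (fun q => ((φ q ⟨l.base, hb⟩ : Fin T.n) : ℕ)) e'
      simp only [map_mul, Equiv.Perm.mul_apply, hfix, ht] at e1
      have hab : a = b := Fin.ext ((hnd.getElem_inj_iff).1 e1)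
      subst hab
      rw [show m = m' from Subtype.ext (mul_left_cancel e')]
    have h1 := Nat.card_le_card_of_injective f hf
    rwa [Nat.card_prod, Nat.card_fin] at h1

/-- Every word of the levels commutes with the letter, as seen on the base. -/
def centOk (g : ℕ) (ls : List Level) : Bool :=
  Nat.blt g tab.ng && ls.all fun l => l.gens.all fun w =>
    w.all (fun x => Nat.blt x tab.ng) && eqBase tab levelsS (w ++ [g]) ([g] ++ w)

/-- The check of a level, reading the long lists through pieces of length 32. -/
noncomputable def levelOkF (T : Tab) (fixed : List ℕ) (l : Level) : Bool :=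
  let P := LeechPSU.pieces (l.pts.length / 32 + 1) l.pts
  let A := LeechPSU.pieces (l.par.length / 32 + 1) l.par
  l.gens.all (fun w => w.all (fun g => Nat.blt g T.ng) &&
      fixed.all fun b => Nat.beq (T.walk b w) b) &&
    decide (l.pts.head? = some l.base) &&
    decide (l.par.length + 1 = l.pts.length) &&
    (List.range l.par.length).all (fun k =>
      let c := (A.getD (k / 32) []).getD (k % 32) (0, 0)
      decide (c.1 < l.gens.length ∧ c.2 ≤ k) &&
        Nat.beq ((P.getD ((k + 1) / 32) []).getD ((k + 1) % 32) 0)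
          (T.walk ((P.getD (c.2 / 32) []).getD (c.2 % 32) 0) (l.gens.getD c.1 []))) &&
    l.pts.all (fun p => Nat.blt p T.n) && nodupB 0 l.pts

theorem levelOkF_ok {T : Tab} {fixed : List ℕ} {l : Level} (h : levelOkF T fixed l = true) :
    levelOk T fixed l = true := by
  simp only [levelOkF, Bool.and_eq_true, List.all_eq_true, List.mem_range, Nat.beq_eq,
    decide_eq_true_eq] at h
  simp only [levelOk, Bool.and_eq_true, List.all_eq_true, List.mem_range, Nat.beq_eq,
    decide_eq_true_eq]
  refine ⟨⟨⟨h.1.1.1, fun k hk => ?_⟩, h.1.2⟩, h.2⟩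
  obtain ⟨hc, he⟩ := h.1.1.2 k hk
  have hlen : l.par.length + 1 = l.pts.length := h.1.1.1.2
  have e0 := LeechPSU.fastGet_eq l.par ((0 : ℕ), (0 : ℕ)) hk
  simp only [LeechPSU.fastGet] at e0
  rw [e0] at hc he
  have e1 := LeechPSU.fastGet_eq l.pts (0 : ℕ) (show k + 1 < l.pts.length by omega)
  have e2 := LeechPSU.fastGet_eq l.pts (0 : ℕ)
    (show (l.par.getD k (0, 0)).2 < l.pts.length by have := hc.2; omega)
  simp only [LeechPSU.fastGet] at e1 e2
  rw [e1, e2] at he
  exact ⟨hc, he⟩

/-- The first level, checked through pieces, and the others. -/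
noncomputable def levelsOkF (T : Tab) : List ℕ → List Level → Bool
  | _, [] => true
  | fixed, l :: ls => levelOkF T fixed l && levelsOkF T (fixed ++ [l.base]) ls

theorem levelsOkF_ok {T : Tab} : ∀ {fixed : List ℕ} {ls : List Level},
    levelsOkF T fixed ls = true → levelsOk T fixed ls = true
  | _, [], _ => rfl
  | _, _ :: _, h => by
    simp only [levelsOkF, Bool.and_eq_true] at h
    simp only [levelsOk, Bool.and_eq_true]
    exact ⟨levelOkF_ok h.1, levelsOkF_ok h.2⟩

theorem levelsCA_fast : levelsOkF tab [] levelsCA = true := by decide +kernel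

theorem levelsCA_ok : levelsOk tab [] levelsCA = true ∧ centOk 0 levelsCA = true ∧
    (levelsCA.map fun l => l.pts.length).prod = 3317760 :=
  ⟨levelsOkF_ok levelsCA_fast, by decide +kernel, by decide +kernel⟩

theorem levelsCE_ok : levelsOk tab [] levelsCE = true ∧ centOk 4 levelsCE = true ∧
    (levelsCE.map fun l => l.pts.length).prod = 161280 := by
  decide +kernel

theorem cent_lower {g : ℕ} {ls : List Level} (h : levelsOk tab [] ls = true)
    (hc : centOk g ls = true) :
    (ls.map fun l => l.pts.length).prod ≤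
      Nat.card (Subgroup.centralizer ({suzGen g} : Set Cfsg.Spor.Suz)) := by
  haveI := card_suz.1
  simp only [centOk, Bool.and_eq_true, List.all_eq_true, Nat.blt_eq] at hc
  obtain ⟨hg, hc⟩ := hc
  have h1 := card_lower_sub realised (S := Subgroup.centralizer ({suzGen g} : Set Cfsg.Spor.Suz))
    h fun l hl w hw => by
      obtain ⟨hlt, he⟩ := hc l hl w hw
      have hgl : ∀ x ∈ [g], x < tab.ng := fun x hx => by rwa [List.mem_singleton.1 hx]
      have e := eq_of_eqBase realised base_trivial (lt_append hlt hgl) (lt_append hgl hlt) he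
      simp only [act_append, act_cons, act_nil, one_mul] at e
      exact Subgroup.mem_centralizer_singleton_iff.2 e.symm
  exact h1.trans (Nat.card_le_card_of_injective _ (Subgroup.inclusion_injective inf_le_left))

/-- The centraliser of the first generator has at least this order. -/
theorem cent_a_lower : 3317760 ≤ Nat.card (Subgroup.centralizer
    ({PresentedGroup.of Cfsg.Spor.Suz.Gen.a} : Set Cfsg.Spor.Suz)) := by
  have h := cent_lower levelsCA_ok.1 levelsCA_ok.2.1
  have e : suzGen 0 = PresentedGroup.of Cfsg.Spor.Suz.Gen.a := rfl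
  rw [levelsCA_ok.2.2] at h
  exact e ▸ h

/-- The centraliser of the fifth generator has at least this order. -/
theorem cent_e_lower : 161280 ≤ Nat.card (Subgroup.centralizer
    ({PresentedGroup.of Cfsg.Spor.Suz.Gen.e} : Set Cfsg.Spor.Suz)) := by
  have h := cent_lower levelsCE_ok.1 levelsCE_ok.2.1
  have e : suzGen 4 = PresentedGroup.of Cfsg.Spor.Suz.Gen.e := rfl
  rw [levelsCE_ok.2.2] at h
  exact e ▸ h

end CfsgLib.Suz
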