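import Cfsg.Agent.Lib.PresCert.Bound
import Cfsg.Agent.Lib.Suz.DataA

/-!
Kernel checks of the certificates.
-/

set_option autoImplicit false
set_option maxRecDepth 100000

namespace CfsgLib.Suz

open CfsgLib.PresCert

theorem certA_block0 : block certA 0 = true := by decide +kernel

theorem certA_block1 : block certA 1 = true := by decide +kernel

theorem certA_block2 : block certA 2 = true := by decide +kernel

theorem certA_block3 : block certA 3 = true := by decide +kernel

theorem certA_block4 : block certA 4 = true := by decide +kernel

theorem certA_block5 : block certA 5 = true := by decide +kernel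

theorem certA_block6 : block certA 6 = true := by decide +kernel

theorem certA_block7 : block certA 7 = true := by decide +kernel

theorem certA_block8 : block certA 8 = true := by decide +kernel

theorem certA_block9 : block certA 9 = true := by decide +kernel

theorem certA_block10 : block certA 10 = true := by decide +kernel

theorem certA_block11 : block certA 11 = true := by decide +kernel

theorem certA_block12 : block certA 12 = true := by decide +kernel

theorem certA_block13 : block certA 13 = true := by decide +kernel

theorem certA_block14 : block certA 14 = true := by decide +kernel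

theorem certA_closedBlock0 : closedBlock certA [[0], [1], [2], [3]] 0 = true := by decide +kernel

theorem certA_closedBlock1 : closedBlock certA [[0], [1], [2], [3]] 1 = true := by decide +kernel

theorem certA_closedBlock2 : closedBlock certA [[0], [1], [2], [3]] 2 = true := by decide +kernel

theorem certA_shape : shapeOk certA = true ∧ ([[0], [1], [2], [3]] : List (List ℕ)).all (fun w => w.all fun g => Nat.blt g certA.ng) = true := by
  decide +kernel

theorem certA_closed : Closed certA [[0], [1], [2], [3]] where
  shape := certA_shape.1
  slots b hb := by
    have h : certA.N = 14848 := rfl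
    obtain rfl | rfl | rfl | rfl | rfl | rfl | rfl | rfl | rfl | rfl | rfl | rfl | rfl | rfl | rfl : b = 0 ∨ b = 1 ∨ b = 2 ∨ b = 3 ∨ b = 4 ∨ b = 5 ∨ b = 6 ∨ b = 7 ∨ b = 8 ∨ b = 9 ∨ b = 10 ∨ b = 11 ∨ b = 12 ∨ b = 13 ∨ b = 14 := by omega
    exacts [certA_block0, certA_block1, certA_block2, certA_block3, certA_block4, certA_block5, certA_block6, certA_block7, certA_block8, certA_block9, certA_block10, certA_block11, certA_block12, certA_block13, certA_block14]
  words := certA_shape.2
  closed b hb := by
    have h : certA.n = 2160 := rfl
    obtain rfl | rfl | rfl : b = 0 ∨ b = 1 ∨ b = 2 := by omega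
    exacts [certA_closedBlock0, certA_closedBlock1, certA_closedBlock2]

end CfsgLib.Suz
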