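import Cfsg.Agent.Lib.PresCert.Bound
import Cfsg.Agent.Lib.Suz.DataB
import Cfsg.Agent.Lib.Suz.DataC
import Cfsg.Agent.Lib.Suz.DataD

/-!
Kernel checks of the certificates.
-/

set_option autoImplicit false
set_option maxRecDepth 100000

namespace CfsgLib.Suz

open CfsgLib.PresCert

theorem certB_block0 : block certB 0 = true := by decide +kernel

theorem certB_block1 : block certB 1 = true := by decide +kernel

theorem certB_closedBlock0 : closedBlock certB [[0], [1], [2], [3], [4]] 0 = true := by decide +kernel

theorem certB_shape : shapeOk certB = true ∧ ([[0], [1], [2], [3], [4]] : List (List ℕ)).all (fun w => w.all fun g => Nat.blt g certB.ng) = true := by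
  decide +kernel

theorem certB_closed : Closed certB [[0], [1], [2], [3], [4]] where
  shape := certB_shape.1
  slots b hb := by
    have h : certB.N = 1024 := rfl
    obtain rfl | rfl : b = 0 ∨ b = 1 := by omega
    exacts [certB_block0, certB_block1]
  words := certB_shape.2
  closed b hb := by
    have h : certB.n = 280 := rfl
    obtain rfl : b = 0 := by omega
    exact certB_closedBlock0

theorem certC_block0 : block certC 0 = true := by decide +kernel

theorem certC_block1 : block certC 1 = true := by decide +kernel

theorem certC_closedBlock0 : closedBlock certC [[0], [1], [2], [3], [4], [5]] 0 = true := by decide +kernel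

theorem certC_shape : shapeOk certC = true ∧ ([[0], [1], [2], [3], [4], [5]] : List (List ℕ)).all (fun w => w.all fun g => Nat.blt g certC.ng) = true := by
  decide +kernel

theorem certC_closed : Closed certC [[0], [1], [2], [3], [4], [5]] where
  shape := certC_shape.1
  slots b hb := by
    have h : certC.N = 1536 := rfl
    obtain rfl | rfl : b = 0 ∨ b = 1 := by omega
    exacts [certC_block0, certC_block1]
  words := certC_shape.2
  closed b hb := by
    have h : certC.n = 416 := rfl
    obtain rfl : b = 0 := by omega
    exact certC_closedBlock0

theorem certD_block0 : block certD 0 = true := by decide +kernel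

theorem certD_block1 : block certD 1 = true := by decide +kernel

theorem certD_block2 : block certD 2 = true := by decide +kernel

theorem certD_block3 : block certD 3 = true := by decide +kernel

theorem certD_block4 : block certD 4 = true := by decide +kernel

theorem certD_block5 : block certD 5 = true := by decide +kernel

theorem certD_block6 : block certD 6 = true := by decide +kernel

theorem certD_block7 : block certD 7 = true := by decide +kernel

theorem certD_block8 : block certD 8 = true := by decide +kernel

theorem certD_closedBlock0 : closedBlock certD [[0], [1], [2], [3], [4], [5], [6]] 0 = true := by decide +kernel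

theorem certD_closedBlock1 : closedBlock certD [[0], [1], [2], [3], [4], [5], [6]] 1 = true := by decide +kernel

theorem certD_shape : shapeOk certD = true ∧ ([[0], [1], [2], [3], [4], [5], [6]] : List (List ℕ)).all (fun w => w.all fun g => Nat.blt g certD.ng) = true := by
  decide +kernel

theorem certD_closed : Closed certD [[0], [1], [2], [3], [4], [5], [6]] where
  shape := certD_shape.1
  slots b hb := by
    have h : certD.N = 8704 := rfl
    obtain rfl | rfl | rfl | rfl | rfl | rfl | rfl | rfl | rfl : b = 0 ∨ b = 1 ∨ b = 2 ∨ b = 3 ∨ b = 4 ∨ b = 5 ∨ b = 6 ∨ b = 7 ∨ b = 8 := by omega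
    exacts [certD_block0, certD_block1, certD_block2, certD_block3, certD_block4, certD_block5, certD_block6, certD_block7, certD_block8]
  words := certD_shape.2
  closed b hb := by
    have h : certD.n = 1782 := rfl
    obtain rfl | rfl : b = 0 ∨ b = 1 := by omega
    exacts [certD_closedBlock0, certD_closedBlock1]

end CfsgLib.Suz
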