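import Cfsg.Agent.Lib.Suz.G2FourCheck

/-!
The commutator relations on the base, roots 6 to 8.
-/

set_option autoImplicit false
set_option maxRecDepth 100000

namespace CfsgLib.Suz.G2Four

theorem comm_part3 : (List.range' 6 3).all commOk = true := by decide +kernel

end CfsgLib.Suz.G2Four
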