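import Cfsg.Agent.Lib.Suz.G2FourAdd
import Cfsg.Agent.Lib.Suz.G2FourComm1
import Cfsg.Agent.Lib.Suz.G2FourComm2
import Cfsg.Agent.Lib.Suz.G2FourComm3
import Cfsg.Agent.Lib.Suz.G2FourComm4
import Cfsg.Agent.Lib.Chev.Orders
import Cfsg.Agent.S1077
import Cfsg.Agent.S1078

/-!
The subgroup generated by the first six generators of the presented Suzuki group is G₂(4).
-/

set_option autoImplicit false
set_option maxRecDepth 100000

namespace CfsgLib.Suz.G2Four

open CfsgLib.PresCert CfsgLib.He Cfsg.Lie

theorem X_add {r : ℕ} (hr : r < 12) (a b : Fin 4) : X r a * X r b = X r (cAdd a b) := by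
  have h := add_all
  simp only [List.all_eq_true, List.mem_range, addOk] at h
  simpa using flat_eq (h r hr a (codes_mem a) b (codes_mem b))

theorem X_inv {r : ℕ} (hr : r < 12) (a : Fin 4) : (X r a)⁻¹ = X r a := by
  refine inv_eq_of_mul_eq_one_right ?_
  have h : X r 0 * X r 0 = X r (cAdd 0 0) := X_add hr 0 0
  have h0 : X r 0 = 1 := by
    have e : cAdd 0 0 = 0 := by decide
    rw [e] at h
    exact mul_eq_left.1 h
  rw [X_add hr, show cAdd a a = 0 by revert a; decide, h0]

theorem comm_terms_lt : (List.range 12).all (fun r => (List.range 12).all fun s =>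
    (chevG2.commTerms r s).all fun c => Nat.blt c.1 12) = true := by
  decide +kernel

theorem X_comm {r s : ℕ} (hr : r < 12) (hs : s < 12) (h1 : s ≠ r) (h2 : s ≠ chevG2.neg r)
    (a b : Fin 4) : X s b * (X r a * (X s b * X r a)) =
      ((commCodes r s a b).map fun p => X p.1 p.2).prod := by
  by_cases h0 : a = 0 ∨ b = 0
  · have hX0 : ∀ k < 12, X k 0 = 1 := fun k hk => by
      have h := X_add hk 0 0
      rw [show cAdd (0 : Fin 4) 0 = 0 by decide] at h
      exact mul_eq_left.1 h
    have hXX : ∀ k, k < 12 → ∀ c, X k c * X k c = 1 := fun k hk c => by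
      conv_lhs => arg 1; rw [← X_inv hk c]
      rw [inv_mul_cancel]
    rw [List.prod_eq_one]
    · rcases h0 with rfl | rfl
      · rw [hX0 r hr, one_mul, mul_one, hXX s hs]
      · rw [hX0 s hs, one_mul, one_mul, hXX r hr]
    · intro x hx
      obtain ⟨p, hp, rfl⟩ := List.mem_map.1 hx
      rw [commCodes_zero hr hs h0 p hp]
      refine hX0 _ ?_
      obtain ⟨c, hc, rfl⟩ := List.mem_map.1 hp
      have := comm_terms_lt
      simp only [List.all_eq_true, List.mem_range, Nat.blt_eq] at this
      exact this r hr s hs c hc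
  push Not at h0
  have h : commOk r = true := by
    rcases (by omega : r < 3 ∨ (3 ≤ r ∧ r < 6) ∨ (6 ≤ r ∧ r < 9) ∨ (9 ≤ r ∧ r < 12)) with h | h | h | h
    · exact List.all_eq_true.1 comm_part1 r (List.mem_range'_1.2 ⟨by omega, by omega⟩)
    · exact List.all_eq_true.1 comm_part2 r (List.mem_range'_1.2 ⟨by omega, by omega⟩)
    · exact List.all_eq_true.1 comm_part3 r (List.mem_range'_1.2 ⟨by omega, by omega⟩)
    · exact List.all_eq_true.1 comm_part4 r (List.mem_range'_1.2 ⟨by omega, by omega⟩)
  simp only [commOk, List.all_eq_true, List.mem_range, Bool.or_eq_true, Nat.beq_eq] at h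
  rcases h s hs with (h | h) | h
  · exact absurd h h1
  · exact absurd h h2
  · simpa [List.prod_cons] using flat_eq (h a (units4_mem h0.1) b (units4_mem h0.2))

theorem X_torus {r : ℕ} (hr : r < 12) {a b : Fin 4} (ha : a ≠ 0) (hb : b ≠ 0) :
    ((hCodes r a).map fun p => X p.1 p.2).prod * ((hCodes r b).map fun p => X p.1 p.2).prod =
      ((hCodes r (cMul a b)).map fun p => X p.1 p.2).prod := by
  have h := torus_all
  simp only [List.all_eq_true, List.mem_range, torusOk] at h
  rw [← List.prod_append, ← List.map_append]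
  exact flat_eq (h r hr a (units4_mem ha) b (units4_mem hb))

section Hom

variable {F : Type} [Field F] (K : J3.Fld F)

/-- The code of a field element. -/
noncomputable def code (x : F) : Fin 4 := (cv_surj K x).choose

theorem cv_code (x : F) : cv K (code K x) = x := (cv_surj K x).choose_spec

theorem code_cv (a : Fin 4) : code K (cv K a) = a := cv_inj K (cv_code K _)

/-- The images of the Steinberg generators. -/
noncomputable def img (p : Fin chevG2.nroots × F) : Cfsg.Spor.Suz := X p.1.val (code K p.2)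

theorem lift_stX {r : ℕ} (a : Fin 4) :
    FreeGroup.lift (img K) (chevG2.stX r (cv K a)) = X r a := by
  by_cases hr : r < chevG2.nroots
  · rw [ChevalleyDatum.stX, dif_pos hr, FreeGroup.lift_apply_of, img, code_cv]
  · rw [ChevalleyDatum.stX, dif_neg hr, map_one, X, wd, List.getD_eq_default, act_nil]
    have : chevG2.nroots = 12 := rfl
    rw [tab_small.2.2.2]
    omega

theorem lift_stWord (L : List (ℕ × Fin 4)) :
    FreeGroup.lift (img K) (chevG2.stWord (L.map fun p => (p.1, cv K p.2))) =
      (L.map fun p => X p.1 p.2).prod := by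
  induction L with
  | nil => simp [ChevalleyDatum.stWord]
  | cons p L ih =>
    simp only [ChevalleyDatum.stWord, List.map_cons, List.prod_cons, map_mul] at ih ⊢
    rw [ih, lift_stX]

include K in
theorem neg_self (x : F) : -x = x := by linear_combination -x * K.two

theorem cv_int (n : ℤ) : ((n : ℤ) : F) = cv K (cInt n) := by
  have h2 : ((2 : ℤ) : F) = 0 := by exact_mod_cast K.two
  conv_lhs => rw [← Int.emod_add_mul_ediv n 2, Int.cast_add, Int.cast_mul, h2, zero_mul, add_zero]
  rcases Int.emod_two_eq n with h | h <;> rw [h, cInt, h]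
  · simp [cv_zero]
  · simp [cv_one]

theorem cv_pow (a : Fin 4) : ∀ n, cv K (cPow a n) = cv K a ^ n
  | 0 => by rw [cPow, cv_one, pow_zero]
  | n + 1 => by rw [cPow, cv_mul, cv_pow a n, pow_succ]

theorem comm_word (r s : ℕ) (a b : Fin 4) :
    chevG2.commWord F r s (cv K a) (cv K b) =
      (commCodes r s a b).map fun p => (p.1, cv K p.2) := by
  rw [ChevalleyDatum.commWord, commCodes, List.map_map]
  refine List.map_congr_left fun c _ => ?_
  simp only [Function.comp_apply, cv_mul, cv_pow, neg_self K, cv_int K]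

theorem cv_inv {a : Fin 4} (ha : a ≠ 0) : (cv K a)⁻¹ = cv K (cInv a) := by
  refine inv_eq_of_mul_eq_one_right ?_
  rw [cInv, ← cv_mul, show cMul a (cMul a a) = 1 by revert a; decide, cv_one]

theorem h_word (r : ℕ) {a : Fin 4} (ha : a ≠ 0) :
    chevG2.hWord r (cv K a) = (hCodes r a).map fun p => (p.1, cv K p.2) := by
  simp [ChevalleyDatum.hWord, ChevalleyDatum.nWord, hCodes, cv_inv K ha, neg_self K, cv_one]

theorem rels : ∀ g ∈ chevG2.steinbergRels F, FreeGroup.lift (img K) g = 1 := by
  have hn : chevG2.nroots = 12 := rfl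
  rintro g ((⟨r, t, u, hr, rfl⟩ | ⟨r, s, t, u, hr, hs, h1, h2, rfl⟩) | ⟨r, t, u, hr, ht, hu, rfl⟩)
  · obtain ⟨a, rfl⟩ := cv_surj K t
    obtain ⟨b, rfl⟩ := cv_surj K u
    rw [← cv_add, map_mul, map_mul, map_inv, lift_stX, lift_stX, lift_stX, X_add (hn ▸ hr),
      mul_inv_cancel]
  · obtain ⟨a, rfl⟩ := cv_surj K t
    obtain ⟨b, rfl⟩ := cv_surj K u
    rw [comm_word, map_mul, map_mul, map_mul, map_mul, map_inv, map_inv, map_inv, lift_stWord,
      lift_stX, lift_stX, X_inv (hn ▸ hs), X_inv (hn ▸ hr), mul_inv_eq_one, mul_assoc, mul_assoc,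
      X_comm (hn ▸ hr) (hn ▸ hs) h1 h2]
  · obtain ⟨a, rfl⟩ := cv_surj K t
    obtain ⟨b, rfl⟩ := cv_surj K u
    have ha : a ≠ 0 := by rintro rfl; exact ht (cv_zero K)
    have hb : b ≠ 0 := by rintro rfl; exact hu (cv_zero K)
    have hab : cMul a b ≠ 0 := by
      intro h
      refine mul_ne_zero ht hu ?_
      rw [← cv_mul, h, cv_zero]
    rw [← cv_mul, ChevalleyDatum.stH, ChevalleyDatum.stH, ChevalleyDatum.stH, h_word K r ha,
      h_word K r hb, h_word K r hab, map_mul, map_mul, map_inv, lift_stWord, lift_stWord,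
      lift_stWord, X_torus (hn ▸ hr) ha hb, mul_inv_cancel]

/-- The homomorphism from the Steinberg group. -/
noncomputable def hom : chevG2.SteinbergGroup F →* Cfsg.Spor.Suz :=
  PresentedGroup.toGroup (rels K)

theorem X_mem (r : ℕ) (a : Fin 4) : X r a ∈ subH := by
  have hmem : ∀ v : List ℕ, (∀ g ∈ v, g < 6) → act suzGen v ∈ subH := by
    intro v
    induction v with
    | nil => intro _; rw [act_nil]; exact Subgroup.one_mem _
    | cons g v ih =>
      intro hv
      rw [act_cons]
      refine Subgroup.mul_mem _ (ih fun a ha => hv a (by simp [ha])) ?_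
      refine Subgroup.subset_closure ⟨[g], ?_, by rw [act_cons, act_nil, one_mul]⟩
      have := hv g (by simp)
      interval_cases g <;> decide
  exact hmem _ wd_lt

theorem X_range (r : ℕ) (a : Fin 4) : X r a ∈ (hom K).range := by
  refine ⟨chevG2.stGen F r (cv K a), ?_⟩
  exact lift_stX K a

theorem range_eq : (hom K).range = subH := by
  refine le_antisymm ?_ ?_
  · rw [MonoidHom.range_eq_map, ← PresentedGroup.closure_range_of (chevG2.steinbergRels F),
      MonoidHom.map_closure, Subgroup.closure_le]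
    rintro _ ⟨_, ⟨p, rfl⟩, rfl⟩
    rw [hom, PresentedGroup.toGroup.of]
    exact X_mem _ _
  · refine (Subgroup.closure_le _).2 ?_
    rintro _ ⟨w, hw, rfl⟩
    have key : ∀ g < 6, act suzGen [g] ∈ (hom K).range := by
      intro g hg
      have h := gens_ok
      simp only [List.all_eq_true, List.mem_range] at h
      rw [eq_of_base (v := flat (genTab.getD g [])) ?_ (flat_lt _) (h g hg), act_flat]
      · refine Subgroup.list_prod_mem _ fun x hx => ?_
        obtain ⟨p, -, rfl⟩ := List.mem_map.1 hx
        exact X_range K _ _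
      · intro x hx
        rw [List.mem_singleton.1 hx, tab_small.2.2.1]
        omega
    simp only [sC, List.mem_cons, List.not_mem_nil, or_false] at hw
    rcases hw with rfl | rfl | rfl | rfl | rfl | rfl <;> exact key _ (by norm_num)

end Hom

theorem exists_iso : ∃ (F : Type) (_ : Field F) (_ : Fintype F), Fintype.card F = 4 ∧
    Nonempty (subH ≃* chevG2.group F) := by
  haveI : Fintype (GaloisField 2 2) := Fintype.ofFinite _
  have hc : Nat.card (GaloisField 2 2) = 4 := by
    rw [GaloisField.card 2 2 two_ne_zero]; norm_num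
  refine ⟨GaloisField 2 2, inferInstance, inferInstance, by rw [Fintype.card_eq_nat_card, hc],
    ?_⟩
  obtain ⟨θ, hθ, hker, -⟩ :=
    Cfsg.Agent.S1077.result (K := GaloisField 2 2) chevG2 (by simp)
  rw [Cfsg.Agent.S1078.result chevG2 (by simp)] at hker
  have hinj : Function.Injective θ := (MonoidHom.ker_eq_bot_iff _).1 hker
  let e : chevG2.SteinbergGroup (GaloisField 2 2) ≃* chevG2.group (GaloisField 2 2) :=
    MulEquiv.ofBijective θ ⟨hinj, hθ⟩
  have hg : Nat.card (chevG2.group (GaloisField 2 2)) = 251596800 := by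
    have h := CfsgLib.Chev.order_G2 (F := GaloisField 2 2)
    rw [hc] at h
    norm_num at h
    exact h
  haveI : Finite (chevG2.SteinbergGroup (GaloisField 2 2)) := Finite.of_equiv _ e.symm.toEquiv
  have hb : Function.Bijective (hom fieldK).rangeRestrict := by
    refine (Nat.bijective_iff_surjective_and_card _).2 ⟨MonoidHom.rangeRestrict_surjective _, ?_⟩
    rw [Nat.card_congr e.toEquiv, hg, range_eq, card_subH]
  exact ⟨((MulEquiv.subgroupCongr (range_eq fieldK)).symm.trans
    (MulEquiv.ofBijective _ hb).symm).trans e⟩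

end CfsgLib.Suz.G2Four
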