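import Cfsg.Agent.Lib.Suz.G2FourCheck

/-!
The additive and toral relations on the base.
-/

set_option autoImplicit false
set_option maxRecDepth 100000

namespace CfsgLib.Suz.G2Four

theorem add_all : (List.range 12).all addOk = true := by decide +kernel

theorem torus_all : (List.range 12).all torusOk = true := by decide +kernel

end CfsgLib.Suz.G2Four
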