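import Mathlib

/-!
Words for the root elements of G₂(4) in the first six generators of the presented Suzuki group, indexed
by four times the root plus the code of the parameter, and the six generators as products of root elements.
-/

set_option autoImplicit false

namespace CfsgLib.Suz.G2Four

/-- Words of the root elements. -/
def wordTab : List (List ℕ) := [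
  [],
  [2, 1, 3, 4, 5, 1, 0, 1, 2, 3, 2, 1, 0, 4, 5, 1, 2, 3, 2, 3, 4, 1, 2, 3, 0, 1, 0],
  [1, 0, 5, 1, 2, 3, 2, 4, 3, 2, 1, 3, 2, 3, 5, 1, 2, 3, 4, 2, 3, 2, 1, 5, 0, 1],
  [1, 3, 2, 5, 1, 0, 1, 2, 3, 2, 4, 3, 2, 1, 5, 4, 3, 2, 3, 4, 1, 2, 3, 2, 3, 4, 1, 0],
  [],
  [1, 2, 4, 3, 2, 1, 0, 3, 2, 3, 5, 1, 2, 3, 4, 2, 1],
  [0, 4, 5, 1, 0, 2, 1, 3, 2, 3, 5, 1, 0, 2, 1, 5, 4, 0],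
  [1, 4, 3, 2, 1, 0, 1, 0, 3, 2, 3, 5, 1, 0, 1, 2, 3, 4, 1],
  [],
  [0, 2, 4, 3, 5, 1, 0, 2, 1, 0, 3, 2, 3, 4, 5, 1, 2, 3, 2, 3, 4, 3, 1, 0, 1, 2, 1, 0],
  [2, 1, 4, 3, 2, 1, 0, 3, 2, 4, 5, 1, 0, 1, 5, 2, 3, 0, 1, 2, 3, 4, 1, 2],
  [0, 1, 0, 1, 0, 4, 3, 2, 3, 5, 1, 0, 2, 1, 5, 4, 3, 2, 3, 4, 0, 1, 0, 1, 0],
  [],
  [3, 5, 1, 0, 2, 1, 0, 3, 2, 5, 1, 2, 3, 4, 2, 3, 2, 1, 5, 3, 4, 2, 3, 0, 1, 2, 0, 1, 5, 3],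
  [1, 0, 5, 1, 2, 3, 2, 4, 3, 2, 1, 0, 3, 5, 1, 2, 3, 4, 1, 2, 3, 2, 1, 5, 3, 4, 0, 1],
  [2, 1, 3, 4, 3, 2, 1, 0, 3, 2, 4, 5, 1, 2, 3, 2, 3, 4, 1, 2, 3, 2, 1, 5, 3, 2, 3, 4, 3, 0, 1, 2, 3, 0],
  [],
  [2, 3, 2, 1, 0, 4, 3, 2, 5, 1, 2, 3, 2, 4, 3, 2, 1, 5, 2, 3, 4, 0, 1, 2, 3, 2],
  [0, 1, 4, 5, 1, 0, 2, 1, 3, 2, 4, 3, 5, 1, 2, 0, 1, 5, 4, 1, 0],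
  [4, 3, 2, 5, 1, 0, 1, 2, 3, 2, 1, 3, 4, 5, 2, 3, 1, 2, 3, 2, 1, 0, 1, 5, 2, 3, 4],
  [],
  [2, 1, 0, 3, 2, 1, 4, 3, 2, 3, 2, 1, 0, 4, 5, 1, 2, 3, 2, 1, 0, 1, 5, 4, 3, 1, 0],
  [1, 5, 1, 0, 1, 2, 3, 2, 1, 4, 3, 2, 3, 4, 5, 0, 1, 2, 3, 2, 1, 0, 1, 5, 1],
  [1, 5, 1, 0, 1, 2, 3, 2, 4, 3, 2, 5, 1, 0, 2, 1, 5, 2, 3, 4, 2, 3, 2, 1, 0, 1, 5, 1],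
  [],
  [0, 1, 4, 3, 5, 1, 0, 2, 1, 0, 3, 4, 5],
  [1, 0, 1, 4, 3, 2, 1, 0, 1, 3, 4],
  [1, 0, 4, 3, 2, 5, 1, 0, 1, 0, 2, 3, 4, 5, 1],
  [],
  [1, 4, 3, 5, 1, 2, 3, 2, 1, 0, 1, 2, 4, 3, 2, 1, 5, 2, 3, 4, 2, 3, 0, 1, 2, 3, 1, 2, 0, 1],
  [0, 2, 1, 0, 1, 3, 2, 4, 5, 1, 2, 3, 2, 4, 3, 2, 1, 5, 2, 3, 4, 2, 3, 1, 2, 3, 1, 2, 3, 1, 0],
  [2, 3, 2, 1, 0, 1, 3, 4, 3, 2, 3, 2, 4, 5, 1, 0, 1, 2, 3, 1, 2, 0, 1, 5, 4, 3, 0, 1, 2, 3, 1],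
  [],
  [2, 3, 2, 1, 0, 1, 3, 4, 3, 2, 3, 4, 5, 1, 0, 1, 2, 3, 1, 2, 0, 1, 5, 4, 3, 1, 2, 3, 1],
  [2, 1, 0, 1, 4, 3, 5, 1, 2, 3, 2, 1, 0, 4, 5, 1, 2, 3, 2, 1, 5, 3, 4, 1, 0, 1, 2],
  [1, 0, 2, 3, 4, 3, 2, 1, 0, 5, 1, 2, 3, 2, 1, 5, 1, 0, 1, 2, 3, 4, 3, 2, 0, 1],
  [],
  [0, 2, 1, 3, 5, 1, 2, 3, 2, 1, 0, 4, 5, 1, 2, 3, 2, 1, 5, 3, 1, 2, 0],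
  [3, 2, 1, 0, 1, 2, 4, 5, 1, 0, 1, 2, 3, 2, 1, 0, 1, 5, 4, 3],
  [0, 2, 1, 0, 5, 1, 0, 2, 1, 3, 2, 1, 3, 4, 5, 3, 1, 2, 3, 1, 2, 0, 1, 5, 0, 1, 2, 0],
  [],
  [1, 0, 1, 2, 3, 2, 4, 3, 2, 3, 5, 1, 0, 2, 1, 5, 3, 1, 2, 3, 4, 2, 3, 2, 1, 0, 1],
  [1, 0, 1, 0, 2, 3, 4, 3, 2, 1, 0, 3, 2, 1, 3, 2, 3, 4, 3, 2, 0, 1, 0, 1],
  [1, 0, 1, 2, 3, 4, 3, 2, 1, 0, 3, 2, 1, 0, 5, 1, 2, 3, 0, 1, 2, 3, 4, 3, 2, 1, 0, 1],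
  [],
  [0, 2, 1, 0, 1, 0, 2, 3, 2, 4, 3, 2, 5, 1, 0, 1, 5, 2, 3, 4, 2, 3, 2, 0, 1, 0, 1, 2, 0],
  [2, 1, 0, 4, 5, 1, 2, 3, 2, 4, 3, 2, 1, 0, 5, 1, 2, 3, 4, 3, 2, 3, 2, 1, 5, 2, 0],
  [0, 2, 1, 0, 1, 0, 2, 3, 2, 1, 4, 3, 2, 3, 4, 1, 2, 3, 2, 0, 1, 0, 1, 2, 0]]

/-- The generators as products of root elements. -/
def genTab : List (List (ℕ × Fin 4)) := [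
  [(0, 2), (11, 1), (2, 3), (3, 2), (8, 3), (9, 2), (0, 3)],
  [(0, 1), (3, 2), (4, 3), (11, 1), (8, 1), (3, 2), (4, 2)],
  [(0, 2), (8, 3), (2, 3), (0, 1), (11, 1), (0, 3)],
  [(2, 1), (11, 2), (9, 2), (6, 2), (2, 1)],
  [(0, 1), (9, 1), (11, 1), (1, 2), (5, 1), (4, 3), (7, 1)],
  [(0, 3), (8, 3), (2, 3), (10, 3), (2, 3), (8, 3), (0, 3)]]

end CfsgLib.Suz.G2Four
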