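import Cfsg.Agent.Lib.Suz.Sub
import Cfsg.Agent.Lib.Suz.G2FourData
import Cfsg.Agent.Lib.He.Sp
import Cfsg.Prelude.Def_Steinberg
import Cfsg.Prelude.Def_ChevG2

/-!
Words for the root elements of G₂(4) in the presented Suzuki group satisfy the Steinberg relations on a base.
-/

set_option autoImplicit false
set_option maxRecDepth 100000

namespace CfsgLib.Suz.G2Four

open CfsgLib.PresCert CfsgLib.He Cfsg.Lie

/-- The word of a root element. -/
def wd (r : ℕ) (a : Fin 4) : List ℕ := wordTab.getD (4 * r + a.val) []

/-- The word of a product of root elements. -/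
def flat : List (ℕ × Fin 4) → List ℕ
  | [] => []
  | p :: L => flat L ++ wd p.1 p.2

/-- The root element in the presented group. -/
def X (r : ℕ) (a : Fin 4) : Cfsg.Spor.Suz := act suzGen (wd r a)

theorem act_flat (L : List (ℕ × Fin 4)) :
    act suzGen (flat L) = (L.map fun p => X p.1 p.2).prod := by
  induction L with
  | nil => rfl
  | cons p L ih => rw [flat, act_append, ih, List.map_cons, List.prod_cons, X]

theorem tab_small : wordTab.all (fun w => w.all fun g => Nat.blt g 6) = true ∧
    genTab.length = 6 ∧ tab.ng = 7 ∧ wordTab.length = 48 := by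
  decide +kernel

theorem wd_lt {r : ℕ} {a : Fin 4} : ∀ g ∈ wd r a, g < 6 := by
  intro g hg
  have h := tab_small.1
  simp only [List.all_eq_true, Nat.blt_eq] at h
  rw [wd] at hg
  by_cases hi : 4 * r + a.val < wordTab.length
  · rw [List.getD_eq_getElem _ _ hi] at hg
    exact h _ (List.getElem_mem _) g hg
  · rw [List.getD_eq_default _ _ (Nat.not_lt.1 hi)] at hg
    simp at hg

theorem flat_lt : ∀ (L : List (ℕ × Fin 4)), ∀ g ∈ flat L, g < tab.ng
  | [], g, hg => by simp [flat] at hg
  | p :: L, g, hg => by
    rw [flat, List.mem_append] at hg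
    rcases hg with hg | hg
    · exact flat_lt L g hg
    · have := wd_lt g hg
      rw [tab_small.2.2.1]
      omega

/-- The six base points. -/
def basePts : List ℕ := [0, 47, 357, 516, 180, 688]

theorem base_eq : [0] ++ levelsS.map Level.base = basePts := by decide +kernel

/-- Two words agree on the base. -/
def sameOn (u v : List ℕ) : Bool := basePts.all fun b => Nat.beq (tab.walk b u) (tab.walk b v)

theorem eq_of_base {u v : List ℕ} (hu : ∀ g ∈ u, g < tab.ng) (hv : ∀ g ∈ v, g < tab.ng)
    (h : sameOn u v = true) : act suzGen u = act suzGen v := by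
  simp only [sameOn, List.all_eq_true, Nat.beq_eq] at h
  have hmem : (act suzGen v)⁻¹ * act suzGen u ∈ fixSub phi ([0] ++ levelsS.map Level.base) := by
    rw [base_eq]
    intro i hi
    rw [map_mul, map_inv, Equiv.Perm.mul_apply, Equiv.Perm.inv_def, Equiv.symm_apply_eq]
    refine Fin.ext ?_
    rw [realised.act_apply hu i, realised.act_apply hv i]
    exact h _ hi
  rw [base_trivial, Subgroup.mem_bot, inv_mul_eq_one] at hmem
  exact hmem.symm

theorem flat_eq {L L' : List (ℕ × Fin 4)} (h : sameOn (flat L) (flat L') = true) :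
    (L.map fun p => X p.1 p.2).prod = (L'.map fun p => X p.1 p.2).prod := by
  rw [← act_flat, ← act_flat]
  exact eq_of_base (flat_lt L) (flat_lt L') h

/-- The inverse of a code. -/
def cInv (a : Fin 4) : Fin 4 := cMul a a

/-- The code of an integer. -/
def cInt (n : ℤ) : Fin 4 := if n % 2 = 0 then 0 else 1

/-- Powers of a code. -/
def cPow (a : Fin 4) : ℕ → Fin 4
  | 0 => 1
  | n + 1 => cMul (cPow a n) a

/-- The commutator word, as codes. -/
def commCodes (r s : ℕ) (a b : Fin 4) : List (ℕ × Fin 4) :=
  (chevG2.commTerms r s).map fun c =>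
    (c.1, cMul (cMul (cInt c.2.1) (cPow a c.2.2.1)) (cPow b c.2.2.2))

/-- The torus word, as codes. -/
def hCodes (r : ℕ) (a : Fin 4) : List (ℕ × Fin 4) :=
  [(r, a), (chevG2.neg r, cInv a), (r, a), (r, 1), (chevG2.neg r, 1), (r, 1)]

/-- The codes. -/
def codes : List (Fin 4) := [0, 1, 2, 3]

/-- The nonzero codes. -/
def units4 : List (Fin 4) := [1, 2, 3]

theorem codes_mem (a : Fin 4) : a ∈ codes := by revert a; decide

theorem units4_mem {a : Fin 4} (h : a ≠ 0) : a ∈ units4 := by revert a; decide

/-- The check of the first family of relations. -/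
def addOk (r : ℕ) : Bool :=
  codes.all fun a => codes.all fun b => sameOn (flat [(r, a), (r, b)]) (flat [(r, cAdd a b)])

/-- The check of the second family of relations. -/
def commOk (r : ℕ) : Bool :=
  (List.range 12).all fun s => Nat.beq s r || Nat.beq s (chevG2.neg r) ||
    units4.all fun a => units4.all fun b =>
      sameOn (flat [(s, b), (r, a), (s, b), (r, a)]) (flat (commCodes r s a b))

/-- The check of the third family of relations. -/
def torusOk (r : ℕ) : Bool :=
  units4.all fun a => units4.all fun b =>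
    sameOn (flat (hCodes r a ++ hCodes r b)) (flat (hCodes r (cMul a b)))

theorem comm_terms_pos : (List.range 12).all (fun r => (List.range 12).all fun s =>
    (chevG2.commTerms r s).all fun c => Nat.ble 1 c.2.2.1 && Nat.ble 1 c.2.2.2) = true := by
  decide +kernel

theorem cPow_zero {n : ℕ} (h : 1 ≤ n) : cPow 0 n = 0 := by
  obtain ⟨m, rfl⟩ : ∃ m, n = m + 1 := ⟨n - 1, by omega⟩
  rw [cPow]
  generalize cPow 0 m = x
  revert x
  decide

/-- With a zero parameter every term of the commutator word is zero. -/
theorem commCodes_zero {r s : ℕ} (hr : r < 12) (hs : s < 12) {a b : Fin 4} (h : a = 0 ∨ b = 0) :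
    ∀ p ∈ commCodes r s a b, p.2 = 0 := by
  intro p hp
  obtain ⟨c, hc, rfl⟩ := List.mem_map.1 hp
  have h0 := comm_terms_pos
  simp only [List.all_eq_true, List.mem_range, Bool.and_eq_true, Nat.ble_eq] at h0
  obtain ⟨h1, h2⟩ := h0 r hr s hs c hc
  have z1 : ∀ x : Fin 4, cMul x 0 = 0 := by decide
  have z2 : ∀ x : Fin 4, cMul 0 x = 0 := by decide
  rcases h with rfl | rfl
  · show cMul (cMul _ (cPow 0 _)) _ = 0
    rw [cPow_zero h1, z1, z2]
  · show cMul _ (cPow 0 _) = 0
    rw [cPow_zero h2, z1]

theorem gens_ok : (List.range 6).all (fun g => sameOn [g] (flat (genTab.getD g []))) = true := by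
  decide +kernel

end CfsgLib.Suz.G2Four
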