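import Cfsg.Agent.Lib.Suz.Pres
import Cfsg.Agent.Lib.Suz.CheckA
import Cfsg.Agent.Lib.Suz.CheckBCD

/-!
The upper bound on the order of the presented Suzuki group.
-/

set_option autoImplicit false
set_option maxRecDepth 100000

namespace CfsgLib.Suz

open CfsgLib.PresCert

/-- The words of the first four generators. -/
def sA : List (List ℕ) := [[0], [1], [2], [3]]

/-- The words of the first five generators. -/
def sB : List (List ℕ) := [[0], [1], [2], [3], [4]]

/-- The words of the generators of the point stabiliser. -/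
def sC : List (List ℕ) := [[0], [1], [2], [3], [4], [5]]

/-- A coset is fixed by the subgroup's words. -/
theorem fix_coset {S : List (List ℕ)} {w : List ℕ} (h : w ∈ S) :
    act suzGen w • ((1 : Cfsg.Spor.Suz) : Cfsg.Spor.Suz ⧸ genGrp S suzGen) =
      ((1 : Cfsg.Spor.Suz) : Cfsg.Spor.Suz ⧸ genGrp S suzGen) := by
  rw [MulAction.Quotient.smul_coe, smul_eq_mul, mul_one, QuotientGroup.eq, mul_one]
  exact inv_mem (Subgroup.subset_closure ⟨w, h, rfl⟩)

/-- One step of the chain. -/
theorem step {D : Data} {S W : List (List ℕ)} {rels : List (List ℕ)} {a b : ℕ}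
    (hD : Closed D W) (hng : D.ng = 7) (hrels : ∀ w ∈ rels, act suzGen w = 1)
    (hr : relsOk D rels = true) (hs : subsOk D S (16 * D.words.length) = true)
    (hS : Finite (genGrp S suzGen) ∧ Nat.card (genGrp S suzGen) ≤ a) (hab : D.n * a ≤ b) :
    Finite (genGrp W suzGen) ∧ Nat.card (genGrp W suzGen) ≤ b := by
  haveI := hS.1
  have H : Hyp D suzGen ((1 : Cfsg.Spor.Suz) : Cfsg.Spor.Suz ⧸ genGrp S suzGen) :=
    hyp_of_checks (fun g hg => suzGen_sq g (hng ▸ hg)) hrels (fun w hw => fix_coset hw) hr hs
  obtain ⟨h1, h2⟩ := card_le hD H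
  exact ⟨h1, h2.trans ((Nat.mul_le_mul_left _ hS.2).trans hab)⟩

theorem triv_le : Finite (genGrp [] suzGen) ∧ Nat.card (genGrp [] suzGen) ≤ 1 := by
  have e : genGrp [] suzGen = ⊥ := by
    rw [genGrp, eq_bot_iff, Subgroup.closure_le]
    rintro x ⟨w, hw, -⟩
    exact absurd hw List.not_mem_nil
  rw [e]
  exact ⟨inferInstance, le_of_eq Subgroup.card_bot⟩

theorem certA_words : relsOk certA suzData.rels = true ∧
    subsOk certA [] (16 * certA.words.length) = true ∧ certA.ng = 7 ∧ certA.n = 2160 := by
  decide +kernel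

theorem certB_words : relsOk certB suzData.rels = true ∧
    subsOk certB sA (16 * certB.words.length) = true ∧ certB.ng = 7 ∧ certB.n = 280 := by
  decide +kernel

theorem certC_words : relsOk certC suzData.rels = true ∧
    subsOk certC sB (16 * certC.words.length) = true ∧ certC.ng = 7 ∧ certC.n = 416 := by
  decide +kernel

theorem certD_words : relsOk certD suzData.rels = true ∧
    subsOk certD sC (16 * certD.words.length) = true ∧ certD.ng = 7 ∧ certD.n = 1782 := by
  decide +kernel

theorem stab_bound : Finite (genGrp sC suzGen) ∧ Nat.card (genGrp sC suzGen) ≤ 251596800 := by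
  have hrels := CoxData.rels_act suz_ok
  obtain ⟨a1, a2, a3, a4⟩ := certA_words
  obtain ⟨b1, b2, b3, b4⟩ := certB_words
  obtain ⟨c1, c2, c3, c4⟩ := certC_words
  have hA := step (b := 2160) certA_closed a3 hrels a1 a2 triv_le (by rw [a4])
  have hB := step (S := sA) (b := 604800) certB_closed b3 hrels b1 b2 hA (by rw [b4])
  exact step (S := sB) (b := 251596800) certC_closed c3 hrels c1 c2 hB (by rw [c4])

/-- The presented group is finite of order at most that of the Suzuki group. -/
theorem suz_le : Finite Cfsg.Spor.Suz ∧ Nat.card Cfsg.Spor.Suz ≤ 448345497600 := by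
  obtain ⟨d1, d2, d3, d4⟩ := certD_words
  obtain ⟨h1, h2⟩ := step (S := sC) (b := 448345497600) certD_closed d3
    (CoxData.rels_act suz_ok) d1 d2 stab_bound (by rw [d4])
  have htop : genGrp ([[0], [1], [2], [3], [4], [5], [6]] : List (List ℕ)) suzGen = ⊤ :=
    closure_all
  rw [htop] at h1 h2
  rw [Subgroup.card_top] at h2
  exact ⟨Finite.of_equiv _ Subgroup.topEquiv.toEquiv, h2⟩

end CfsgLib.Suz
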