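import Cfsg.Agent.Lib.Suz.Order
import Cfsg.Agent.Lib.Suz.PermFix0
import Cfsg.Agent.Lib.Suz.PermFix1

/-!
The presented Suzuki group on 1782 points: its order, the point stabiliser and simplicity.
-/

set_option autoImplicit false
set_option maxRecDepth 100000

namespace CfsgLib.Suz

open CfsgLib.PresCert

theorem tabInv : tab.Inv := fun _ hb => two_blocks tab_inv0 hb

theorem relData_fix {w : List ℕ} (hw : w ∈ relData) : tab.Fix w := by
  intro b hb
  rw [← List.take_append_drop 30 relData, List.mem_append] at hw
  have hb' : b = 0 ∨ b = 1 := by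
    have : tab.n = 1782 := rfl
    omega
  rcases hb' with rfl | rfl
  · exact hw.elim (List.all_eq_true.1 relFix0a w) (List.all_eq_true.1 relFix0b w)
  · exact hw.elim (List.all_eq_true.1 relFix1a w) (List.all_eq_true.1 relFix1b w)

theorem perm_rels : ∀ w ∈ suzData.rels, act (tab.perm tabInv) w = 1 :=
  CoxData.perm_rels tabInv (P := suzData) rfl rels_covered fun _ hw => relData_fix hw

/-- The action on 1782 points. -/
def phi : Cfsg.Spor.Suz →* Equiv.Perm (Fin tab.n) := CoxData.toPerm tabInv perm_rels

theorem realised : Realised suzGen tab phi := CoxData.realised_toPerm tabInv suz_ok rfl perm_rels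

theorem tree_ok : ∀ b, 1000 * b < tab.n → treeBlock tab 14 treePars b = true :=
  fun _ hb => two_blocks tab_tree hb

theorem zero_lt : 0 < tab.n := by decide +kernel

theorem stab_le : (∀ i j : Fin tab.n, ∃ m, phi m i = j) ∧
    Nat.card (fixSub phi [0]) ≤ (levelsS.map fun l => l.pts.length).prod := by
  haveI := suz_le.1
  obtain ⟨h1, h2⟩ := card_trans realised zero_lt tree_ok
  refine ⟨h1, ?_⟩
  have h3 := suz_le.2
  have hn : tab.n = 1782 := rfl
  rw [h2, hn] at h3
  rw [tab_levels.2.1]
  omega

/-- The order of the presented Suzuki group. -/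
theorem card_suz : Finite Cfsg.Spor.Suz ∧ Nat.card Cfsg.Spor.Suz = 448345497600 := by
  haveI := suz_le.1
  refine ⟨suz_le.1, ?_⟩
  rw [(card_trans realised zero_lt tree_ok).2,
    (base_tight realised tab_levels.1 stab_le.2).1, tab_levels.2.1]
  norm_num [show tab.n = 1782 from rfl]

theorem base_trivial : fixSub phi ([0] ++ levelsS.map Level.base) = ⊥ := by
  haveI := suz_le.1
  exact (base_tight realised tab_levels.1 stab_le.2).2

theorem phi_injective : Function.Injective phi := by
  refine (MonoidHom.ker_eq_bot_iff _).1 (eq_bot_iff.2 ?_)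
  rw [← base_trivial]
  intro m hm i _
  rw [MonoidHom.mem_ker.1 hm]
  rfl

/-- The subgroup generated by the first six generators. -/
def subH : Subgroup Cfsg.Spor.Suz := genGrp sC suzGen

theorem letters_fix : sC.all (fun w => Nat.beq (tab.walk 0 w) 0 &&
    w.all fun g => Nat.blt g tab.ng) = true := by
  decide +kernel

theorem subH_eq : subH = fixSub phi [0] := by
  haveI := suz_le.1
  refine le_antisymm ?_ ?_
  · refine (Subgroup.closure_le _).2 ?_
    rintro _ ⟨w, hw, rfl⟩
    intro i hi
    have h := letters_fix
    simp only [List.all_eq_true, Bool.and_eq_true, Nat.blt_eq, Nat.beq_eq] at h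
    refine Fin.ext ?_
    rw [realised.act_apply (h w hw).2, List.mem_singleton.1 hi, (h w hw).1]
  · refine fixSub_le_of_gens realised tab_levels.1 (fun l hl w hw => ?_)
      (base_trivial ▸ bot_le) stab_le.2
    have h := tab_levels.2.2
    simp only [List.all_eq_true, Nat.blt_eq] at h
    have hmem : ∀ v : List ℕ, (∀ g ∈ v, g < 6) → act suzGen v ∈ subH := by
      intro v
      induction v with
      | nil => intro _; rw [act_nil]; exact Subgroup.one_mem _
      | cons g v ih =>
        intro hv
        rw [act_cons]
        refine Subgroup.mul_mem _ (ih fun a ha => hv a (by simp [ha])) ?_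
        refine Subgroup.subset_closure ⟨[g], ?_, by rw [act_cons, act_nil, one_mul]⟩
        have := hv g (by simp)
        interval_cases g <;> decide
    exact hmem w (h l hl w hw)

theorem card_subH : Nat.card subH = 251596800 := by
  haveI := suz_le.1
  rw [subH_eq, (base_tight realised tab_levels.1 stab_le.2).1, tab_levels.2.1]

theorem index_subH : subH.index = 1782 := by
  haveI := card_suz.1
  have h := subH.card_mul_index
  rw [card_subH, card_suz.2] at h
  omega

theorem forest_ok : ForestOk tab forest :=
  ⟨forest_shape, fun _ hb => two_blocks forest_blocks hb⟩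

theorem forest_count {k : ℕ} (hk : k < 3) :
    ((List.range tab.n).filter fun q => Nat.beq (forest.lab q) k).length =
      [1, 416, 1365].getD k 0 := by
  rw [← forest_counts.1, List.getD_eq_getElem _ _ (by simpa using hk)]
  simp [show tab.n = 1782 from rfl]

theorem suz_gcd : ∀ g ≤ 1782, g ∣ 1782 → 416 ≤ g → 11 ∣ g := by
  intro g hg hd hge
  have h : ((List.range 1783).filter fun a => Nat.beq (1782 % a) 0 && Nat.ble 416 a).all
      (fun a => Nat.beq (a % 11) 0) = true := by decide +kernel
  simp only [List.all_eq_true, List.mem_filter, List.mem_range, Bool.and_eq_true, Nat.beq_eq,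
    Nat.ble_eq] at h
  exact Nat.dvd_of_mod_eq_zero (h g ⟨by omega, Nat.mod_eq_zero_of_dvd hd, hge⟩)

/-- The presented Suzuki group is simple. -/
theorem simple : IsSimpleGroup Cfsg.Spor.Suz := by
  haveI := card_suz.1
  obtain ⟨hx, hcent⟩ := selfCent realised (fun g hg => suzGen_sq g hg) (p := 13) (by norm_num)
    tab_levels.1 stab_le.2 base_trivial tab_cycles (fun b hb => two_blocks x_moves hb)
  refine simple_of phi_injective stab_le.1 (by norm_num) hx hcent ?_ perfect ⟨0, zero_lt⟩ 416
    (fun d hd _ key => ?_) fun i hi => ?_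
  · rw [card_suz.2]; norm_num
  · rw [card_suz.2] at hd
    rw [show tab.n = 1782 from rfl]
    by_contra hlt
    rw [Nat.not_lt] at hlt
    have h2 : 11 ∣ d := (suz_gcd (Nat.gcd d 1782) (Nat.le_of_dvd (by norm_num)
      (Nat.gcd_dvd_right _ _)) (Nat.gcd_dvd_right _ _) hlt).trans (Nat.gcd_dvd_left _ _)
    have h11 : Nat.Prime 11 := by norm_num
    have hd0 : d ≠ 0 := by rintro rfl; norm_num at hd
    have h3 : 1 ≤ d.factorization 11 := (h11.dvd_iff_one_le_factorization hd0).1 h2
    have h4 : d.factorization 11 < 2 := by
      by_contra h5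
      have h6 := ((h11.pow_dvd_iff_le_factorization hd0).2 (Nat.not_lt.1 h5)).trans hd
      norm_num at h6
    have k := key 11 h11
    rw [show d.factorization 11 = 1 by omega] at k
    norm_num at k
  · have hlab : forest.lab i.val ≠ 0 := fun h0 => hi (by
      obtain ⟨m, hm, e⟩ := forest_ok.reach realised i
      rw [← e]
      refine Fin.ext ?_
      have hr : forest.roots.getD (forest.lab i.val) 0 = 0 := by rw [h0]; rfl
      have hfix : m ∈ fixSub phi [0] := by rw [← subH_eq]; exact hm
      simp only [hr]
      rw [hfix ⟨0, zero_lt⟩ (by simp)])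
    have hlt : forest.lab i.val < 3 := forest_counts.2.1 ▸ (forest_ok.spec i.isLt).2.1
    refine le_trans ?_ (le_of_eq_of_le (forest_ok.orbit_card realised i).symm
      (Set.ncard_le_ncard ?_ (Set.toFinite _)))
    · rw [forest_count hlt]
      interval_cases h : forest.lab i.val <;> simp_all
    · rintro j ⟨m, hm, rfl⟩
      have hfix : m ∈ fixSub phi [0] := by rw [← subH_eq]; exact hm
      exact ⟨m, hfix ⟨0, zero_lt⟩ (by simp), rfl⟩

end CfsgLib.Suz
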