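import Cfsg.Agent.Lib.Suz.OutCheck
import Cfsg.Agent.Lib.Suz.Perm
import Cfsg.Agent.Lib.MathieuOut.Abstract

/-!
# The outer automorphisms of the presented Suzuki group

An element of order thirteen, an element of order six normalising it and a third element generate
the group. An automorphism can be normalised on the first two, so few images are left for the third
one, and all but two of these break a relation.
-/

set_option autoImplicit false
set_option maxRecDepth 100000

namespace CfsgLib.Suz.Out

open CfsgLib.PresCert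

/-- The element of order thirteen. -/
def xElt : Cfsg.Spor.Suz := act suzGen xWord

/-- The element of order six. -/
def vElt : Cfsg.Spor.Suz := act suzGen vWord

/-- The third element. -/
def wElt : Cfsg.Spor.Suz := act suzGen wWord

theorem x_spec : orderOf xElt = 13 ∧
    ∀ g : Cfsg.Spor.Suz, g * xElt = xElt * g → g ∈ Subgroup.zpowers xElt := by
  haveI := card_suz.1
  exact selfCent realised (fun g hg => suzGen_sq g hg) (by norm_num) tab_levels.1 stab_le.2
    base_trivial tab_cycles (fun b hb => two_blocks x_moves hb)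

theorem card_levelsV :
    Nat.card (fixSub phi [0]) ≤ (levelsV.map fun l => l.pts.length).prod := by
  have h := stab_le.2
  rwa [tab_levels.2.1, ← levelsV_card.1] at h

theorem baseV_trivial : fixSub phi ([0] ++ levelsV.map Level.base) = ⊥ := by
  haveI := card_suz.1
  exact (base_tight realised levelsV_ok card_levelsV).2

theorem lt_all : ∀ w ∈ [xWord, vWord, wWord] ++ wWords ++ imgWords ++
    entries.map (fun e => e.2), ∀ g ∈ w, g < tab.ng :=
  wordsLt_spec words_lt

theorem lt_x : ∀ g ∈ xWord, g < tab.ng := lt_all _ (by simp)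
theorem lt_v : ∀ g ∈ vWord, g < tab.ng := lt_all _ (by simp)
theorem lt_w : ∀ g ∈ wWord, g < tab.ng := lt_all _ (by simp)
theorem lt_nil : ∀ g ∈ ([] : List ℕ), g < tab.ng := fun _ h => absurd h List.not_mem_nil

theorem lt_rev {p : List ℕ} (hp : ∀ g ∈ p, g < tab.ng) : ∀ g ∈ p.reverse, g < tab.ng :=
  fun g hg => hp g (List.mem_reverse.1 hg)

theorem eq_words {p q : List ℕ} (hp : ∀ g ∈ p, g < tab.ng) (hq : ∀ g ∈ q, g < tab.ng)
    (h : eqBase tab levelsV p q = true) : act suzGen p = act suzGen q := by
  haveI := card_suz.1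
  exact eq_of_eqBase realised baseV_trivial hp hq h

theorem words_eq {p q : List ℕ} (hp : ∀ g ∈ p, g < tab.ng) (hq : ∀ g ∈ q, g < tab.ng)
    (h : act suzGen p = act suzGen q) : eqBase tab levelsV p q = true := by
  haveI := card_suz.1
  refine eqBase_of_eq realised (fun i hi => ?_) hp hq h
  have hb := base_lt
  simp only [List.all_eq_true, Nat.blt_eq] at hb
  exact hb i hi

theorem act_rev {p : List ℕ} (hp : ∀ g ∈ p, g < tab.ng) :
    act suzGen p.reverse = (act suzGen p)⁻¹ :=
  act_reverse (ng := 7) suzGen_sq hp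

theorem v_inv : vElt⁻¹ = vElt ^ 5 := by
  rw [vElt, ← act_rev lt_v, eq_words (lt_rev lt_v) (lt_repWord lt_v 5) v_rels.2.2.1, act_repWord]

theorem v_pow : vElt ^ 6 = 1 := by
  rw [vElt, ← act_repWord, eq_words (lt_repWord lt_v 6) lt_nil v_rels.2.2.2.1, act_nil]

theorem vu : vElt * xElt = xElt ^ 4 * vElt := by
  have h := eq_words (lt_append lt_x lt_v) (lt_append lt_v (lt_repWord lt_x 4)) v_rels.2.1
  rw [act_append, act_append, act_repWord] at h
  exact h

theorem wv : wElt * vElt = vElt ^ 5 * wElt := by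
  have h := eq_words (lt_append lt_v lt_w) (lt_append lt_w (lt_rev lt_v)) v_rels.2.2.2.2
  rw [act_append, act_append, act_rev lt_v] at h
  rw [← v_inv]
  exact h

/-- The first point. -/
def pZero : Fin tab.n := ⟨0, zero_lt⟩

theorem mem_fix0 {m : Cfsg.Spor.Suz} (h : phi m pZero = pZero) : m ∈ fixSub phi [0] := by
  intro i hi
  rwa [show i = pZero from Fin.ext (List.mem_singleton.1 hi)]

theorem v_pZero : phi vElt pZero = pZero :=
  Fin.ext ((realised.act_apply lt_v pZero).trans (Nat.eq_of_beq_eq_true v_rels.1))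

theorem v_fix_only {i : Fin tab.n} (h : phi vElt i = i) : ∃ e ∈ entries, i.val = e.1 := by
  have hb := two_blocks v_fix (b := i.val / 1000) (by
    have := i.isLt
    have hn : tab.n = 1782 := rfl
    omega)
  simp only [List.all_eq_true, List.mem_range, Bool.or_eq_true, Bool.not_eq_true',
    List.any_eq_true] at hb
  have h' := hb (i.val % 1000) (Nat.mod_lt _ (by norm_num))
  rw [Nat.div_add_mod] at h'
  rcases h' with (h1 | ⟨e, he, h1⟩) | h1
  · have : Nat.blt i.val tab.n = true := by rw [Nat.blt_eq]; exact i.isLt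
    rw [this] at h1
    exact Bool.noConfusion h1
  · exact ⟨e, he, Nat.eq_of_beq_eq_true h1⟩
  · have e : tab.walk i.val vWord = i.val := by
      rw [← realised.act_apply lt_v i]; exact congrArg Fin.val h
    rw [e] at h1
    simp at h1

theorem fix_pow {y : Cfsg.Spor.Suz} {i : Fin tab.n} (h : phi y i = i) :
    ∀ n : ℕ, phi (y ^ n) i = i
  | 0 => by rw [pow_zero, map_one]; rfl
  | n + 1 => by rw [pow_succ, map_mul, Equiv.Perm.mul_apply, h, fix_pow h n]

/-- The possible images of the third element. -/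
def wList : List Cfsg.Spor.Suz := wWords.map (act suzGen)

theorem w_list {x : Cfsg.Spor.Suz} (hx : x * vElt = vElt ^ 5 * x) : x ∈ wList := by
  haveI := card_suz.1
  have hw0 : phi vElt (phi (wElt⁻¹ * x) pZero) = phi (wElt⁻¹ * x) pZero := by
    rw [← Equiv.Perm.mul_apply, ← map_mul]
    have hc : vElt * (wElt⁻¹ * x) = wElt⁻¹ * x * vElt := by
      rw [mul_assoc, hx, eq_inv_mul_iff_mul_eq, ← mul_assoc, ← mul_assoc, wv,
        mul_assoc (vElt ^ 5) wElt, mul_inv_cancel, mul_one]
    rw [hc, map_mul, Equiv.Perm.mul_apply, v_pZero]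
  obtain ⟨e, he, hp⟩ := v_fix_only hw0
  have hlt_t : ∀ g ∈ e.2, g < tab.ng := lt_all _ (by
    simp only [List.mem_append, List.mem_map]
    exact Or.inr ⟨e, he, rfl⟩)
  have hw := entry_words
  simp only [List.all_eq_true, Bool.and_eq_true, Nat.beq_eq] at hw
  obtain ⟨ht, hz⟩ := hw e he
  set t := act suzGen e.2 with ht'
  have htv : t * vElt = vElt * t := by
    have h := eq_words (lt_append lt_v hlt_t) (lt_append hlt_t lt_v) hz
    rw [act_append, act_append] at h
    exact h
  have hfix : t⁻¹ * (wElt⁻¹ * x) ∈ fixSub phi [0] := by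
    refine mem_fix0 ?_
    rw [map_mul, Equiv.Perm.mul_apply, map_inv, Equiv.Perm.inv_def, Equiv.symm_apply_eq]
    exact Fin.ext (hp.trans (by rw [ht', realised.act_apply hlt_t]; exact ht.symm))
  have hcom : t⁻¹ * (wElt⁻¹ * x) * vElt = vElt * (t⁻¹ * (wElt⁻¹ * x)) := by
    have h1 : wElt⁻¹ * x * vElt = vElt * (wElt⁻¹ * x) := by
      rw [mul_assoc, hx, inv_mul_eq_iff_eq_mul, ← mul_assoc, ← mul_assoc, wv,
        mul_assoc (vElt ^ 5) wElt, mul_inv_cancel, mul_one]
    rw [mul_assoc, h1, inv_mul_eq_iff_eq_mul, ← mul_assoc t vElt, htv, mul_assoc vElt t,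
      mul_inv_cancel_left]
  obtain ⟨c, hc, hce⟩ := conjList_complete realised suzGen_sq lt_v levelsV_ok card_levelsV
    levelsV_card.2 cent_list hfix hcom
  obtain ⟨i, hi, hic⟩ := List.getElem_of_mem hc
  obtain ⟨j, hj, hje⟩ := List.getElem_of_mem he
  obtain ⟨hww, hwl, hcl, hel⟩ := w_words
  simp only [List.all_eq_true, List.mem_range] at hww
  have hidx : 12 * j + i < wWords.length := by omega
  have hltc : ∀ g ∈ c, g < tab.ng := by
    have h := cent_list
    simp only [conjListOk, Bool.and_eq_true] at h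
    exact wordsLt_spec h.1.1.1.1 c (List.mem_cons_of_mem _ hc)
  have heq := eq_words (lt_append (lt_append hltc hlt_t) lt_w)
    (lt_all _ (by simp [List.getElem_mem hidx] : wWords[12 * j + i] ∈ _)) (by
      have h := hww j (by omega) i (by omega)
      rwa [List.getD_eq_getElem _ _ hi, hic, List.getD_eq_getElem _ _ hj, hje,
        List.getD_eq_getElem _ _ hidx] at h)
  refine List.mem_map.2 ⟨_, List.getElem_mem hidx, ?_⟩
  rw [← heq, act_append, act_append, ← hce]
  show wElt * (t * (t⁻¹ * (wElt⁻¹ * x))) = x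
  rw [mul_inv_cancel_left, mul_inv_cancel_left]

theorem u_pZero : phi xElt pZero = pZero := by
  have h := tab_cycles
  simp only [cycOk, Bool.and_eq_true, Nat.beq_eq] at h
  exact Fin.ext ((realised.act_apply lt_x pZero).trans h.1.1.1.1.1.1.1.1.1.2)

theorem u_fix_only {i : Fin tab.n} (h : phi xElt i = i) : i = pZero := by
  have hb := two_blocks x_moves (b := i.val / 1000) (by
    have := i.isLt
    have hn : tab.n = 1782 := rfl
    omega)
  simp only [moveBlock, List.all_eq_true, List.mem_range, Bool.or_eq_true, Bool.not_eq_true'] at hb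
  have h' := hb (i.val % 1000) (Nat.mod_lt _ (by norm_num))
  rw [Nat.div_add_mod] at h'
  rcases h' with (h1 | h1) | h1
  · have : Nat.blt i.val tab.n = true := by rw [Nat.blt_eq]; exact i.isLt
    rw [this] at h1
    exact Bool.noConfusion h1
  · exact Fin.ext (Nat.eq_of_beq_eq_true h1)
  · have e : tab.walk i.val xWord = i.val := by
      rw [← realised.act_apply lt_x i]; exact congrArg Fin.val h
    rw [e] at h1
    simp at h1

theorem card_13 : ¬ 13 ^ 2 ∣ Nat.card Cfsg.Spor.Suz := by
  rw [card_suz.2]; norm_num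

theorem lt_six (k : ℕ) {z : List ℕ} (hz : ∀ g ∈ z, g < tab.ng) :
    ∀ w ∈ six k z, ∀ g ∈ w, g < tab.ng := by
  have hx : ∀ g ∈ (if k = 1 then xWord else xWord ++ xWord), g < tab.ng := by
    split_ifs
    exacts [lt_x, lt_append lt_x lt_x]
  intro w hw
  simp only [six, List.mem_cons, List.not_mem_nil, or_false] at hw
  rcases hw with rfl | rfl | rfl | rfl | rfl | rfl
  exacts [hx, lt_v, hz, lt_rev hx, lt_rev lt_v, lt_rev hz]

theorem act_six (k : ℕ) (hk : k = 1 ∨ k = 2) {z : List ℕ} (hz : ∀ g ∈ z, g < tab.ng)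
    (α : MulAut Cfsg.Spor.Suz) (hu : α xElt = xElt ^ k) (hv : α vElt = vElt)
    (hw : α wElt = act suzGen z) (p : List ℕ) :
    α (act suzGen (expand (six 1 wWord) p)) = act suzGen (expand (six k z) p) := by
  have hx : ∀ g ∈ (if k = 1 then xWord else xWord ++ xWord), g < tab.ng := by
    split_ifs
    exacts [lt_x, lt_append lt_x lt_x]
  have hpow : act suzGen (if k = 1 then xWord else xWord ++ xWord) = xElt ^ k := by
    rcases hk with rfl | rfl
    · rw [if_pos rfl, pow_one]; rfl
    · rw [if_neg (by decide), act_append, pow_two]; rfl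
  rw [act_expand, act_expand]
  refine (map_act α.toMonoidHom _ p).trans (act_congr' fun a _ => ?_)
  show α (act suzGen ((six 1 wWord).getD a [])) = act suzGen ((six k z).getD a [])
  rcases a with _ | _ | _ | _ | _ | _ | a
  · show α (act suzGen xWord) = act suzGen (if k = 1 then xWord else xWord ++ xWord)
    rw [hpow]
    exact hu
  · exact hv
  · exact hw
  · show α (act suzGen xWord.reverse) =
      act suzGen (if k = 1 then xWord else xWord ++ xWord).reverse
    rw [act_rev lt_x, act_rev hx, map_inv, hpow]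
    exact congrArg _ hu
  · show α (act suzGen vWord.reverse) = act suzGen vWord.reverse
    rw [act_rev lt_v, map_inv]
    exact congrArg _ hv
  · show α (act suzGen wWord.reverse) = act suzGen z.reverse
    rw [act_rev lt_w, act_rev hz, map_inv]
    exact congrArg _ hw
  · exact map_one α

theorem closure_three :
    Subgroup.closure {x | x ∈ xElt :: vElt :: [wElt]} = (⊤ : Subgroup Cfsg.Spor.Suz) := by
  set S := Subgroup.closure {x | x ∈ xElt :: vElt :: [wElt]} with hS
  have hx : xElt ∈ S := Subgroup.subset_closure (by simp)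
  have hv : vElt ∈ S := Subgroup.subset_closure (by simp)
  have hw : wElt ∈ S := Subgroup.subset_closure (by simp)
  have h3 : ∀ a, act suzGen ((six 1 wWord).getD a []) ∈ S := by
    intro a
    rcases a with _ | _ | _ | _ | _ | _ | a
    · exact hx
    · exact hv
    · exact hw
    · show act suzGen xWord.reverse ∈ S
      rw [act_rev lt_x]; exact S.inv_mem hx
    · show act suzGen vWord.reverse ∈ S
      rw [act_rev lt_v]; exact S.inv_mem hv
    · show act suzGen wWord.reverse ∈ S
      rw [act_rev lt_w]; exact S.inv_mem hw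
    · exact S.one_mem
  rw [eq_top_iff, ← closure_all, genGrp, Subgroup.closure_le]
  rintro _ ⟨_, hw', rfl⟩
  obtain ⟨g, hg, rfl⟩ := List.mem_map.1 hw'
  have h := gen_ok
  simp only [List.all_eq_true] at h
  have h7 : g < tab.ng := List.mem_range.1 hg
  rw [← eq_words (lt_expand (lt_six 1 lt_w) _) (fun a ha => by rw [List.mem_singleton.1 ha]; exact h7)
    (h g hg), act_expand]
  exact act_mem_of h3 _

theorem vpow_u (l k : ℕ) : vElt ^ l * xElt ^ k = xElt ^ (4 ^ l * k) * vElt ^ l := by
  induction l generalizing k with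
  | zero => simp
  | succ l ih =>
    have h : vElt * xElt ^ k = xElt ^ (4 * k) * vElt := by
      induction k with
      | zero => simp
      | succ k ihk =>
        rw [pow_succ, ← mul_assoc, ihk, mul_assoc, vu, ← mul_assoc, ← pow_add, Nat.mul_succ]
    rw [pow_succ vElt l, mul_assoc, h, ← mul_assoc, ih, mul_assoc, pow_succ 4 l, mul_assoc]

theorem normaliser (x : Cfsg.Spor.Suz) (hx : x * xElt = xElt ^ 4 * x) :
    ∃ i : ℕ, x = xElt ^ i * vElt ∧ ∃ a : ℕ, xElt ^ a * x * (xElt ^ a)⁻¹ = vElt := by
  haveI := card_suz.1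
  have hc : vElt⁻¹ * x * xElt = xElt * (vElt⁻¹ * x) := by
    rw [mul_assoc, hx, inv_mul_eq_iff_eq_mul, ← mul_assoc, ← mul_assoc, vu,
      mul_assoc (xElt ^ 4) vElt, mul_inv_cancel, mul_one]
  obtain ⟨j, hj⟩ := (isOfFinOrder_of_finite xElt).mem_powers_iff_mem_zpowers.2
    (x_spec.2 _ hc)
  have hj' : xElt ^ j = vElt⁻¹ * x := hj
  have hvu := vpow_u 1
  simp only [pow_one] at hvu
  have ex : x = xElt ^ (4 * j) * vElt := by
    rw [← hvu j, hj', mul_inv_cancel_left]
  refine ⟨4 * j, ex, 9 * (4 * j), ?_⟩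
  rw [mul_inv_eq_iff_eq_mul, hvu, ex, ← mul_assoc, ← pow_add]
  congr 1
  rw [← pow_mod_orderOf, x_spec.1, ← pow_mod_orderOf (n := 4 * (9 * (4 * j))), x_spec.1]
  congr 1
  omega

theorem reps_table : ∀ k : Fin 13, k.val ≠ 0 → ∃ l : Fin 6,
    4 ^ l.val * k.val % 13 = 1 ∨ 4 ^ l.val * k.val % 13 = 2 := by decide +kernel

theorem reps (k : ℕ) (hk : ¬ 13 ∣ k) :
    ∃ l : ℕ, ∃ k' ∈ [1, 2], vElt ^ l * xElt ^ k * (vElt ^ l)⁻¹ = xElt ^ k' := by
  obtain ⟨l, hl⟩ := reps_table ⟨k % 13, Nat.mod_lt _ (by norm_num)⟩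
    (fun h => hk (Nat.dvd_of_mod_eq_zero h))
  refine ⟨l.val, 4 ^ l.val * (k % 13) % 13, by simpa using hl, ?_⟩
  rw [vpow_u, mul_inv_cancel_right, ← pow_mod_orderOf, x_spec.1, Nat.mul_mod_mod]

/-- The two possible normalised automorphisms. -/
def valid : List (ℕ × List Cfsg.Spor.Suz) :=
  [(1, [act suzGen (wWords.getD 0 [])]), (2, [act suzGen (wWords.getD 5 [])])]

theorem others (k : ℕ) (hk : k ∈ [1, 2]) (xs : List Cfsg.Spor.Suz)
    (hlen : xs.length = [wElt].length) (hxs : ∀ x ∈ xs, x ∈ wList) :
    (k, xs) ∈ valid ∨ ∀ α : MulAut Cfsg.Spor.Suz, α xElt = xElt ^ k → α vElt = vElt →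
      [wElt].map α = xs → False := by
  obtain ⟨x, rfl⟩ := List.length_eq_one_iff.1 hlen
  obtain ⟨wd, hwd, rfl⟩ := List.mem_map.1 (hxs x (by simp))
  obtain ⟨i, hi, hwi⟩ := List.getElem_of_mem hwd
  have hgi : wWords.getD i [] = wd := by rw [List.getD_eq_getElem _ _ hi, hwi]
  have hc := bad_cover
  simp only [List.all_eq_true, Bool.or_eq_true, decide_eq_true_eq, List.any_eq_true,
    List.mem_range] at hc
  rcases hc k hk i hi with (h | h) | ⟨⟨c1, b, q⟩, hmem, hci⟩
  · obtain ⟨rfl, rfl⟩ := Prod.mk.injEq .. ▸ h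
    exact Or.inl (by rw [← hgi]; exact List.mem_cons_self)
  · obtain ⟨rfl, rfl⟩ := Prod.mk.injEq .. ▸ h
    exact Or.inl (by rw [← hgi]; exact List.mem_cons_of_mem _ List.mem_cons_self)
  obtain rfl : c1 = (k, i) := hci
  refine Or.inr fun α hu hv hmap => ?_
  have hw : α wElt = act suzGen wd := by simpa using hmap
  have hlt : ∀ g ∈ wd, g < tab.ng := lt_all _ (by simp [hwd])
  have hb := bad_ok
  simp only [List.all_eq_true, Bool.and_eq_true, Bool.not_eq_true', Nat.blt_eq] at hb
  obtain ⟨⟨hbl, hq⟩, hmove⟩ := hb _ hmem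
  set p := (badWords.getD b ([], 0)).1
  set n := (badWords.getD b ([], 0)).2
  have htriv := bad_trivial
  simp only [List.all_eq_true] at htriv
  have h1 := eq_words (lt_repWord (lt_expand (lt_six 1 lt_w) p) n) lt_nil
    (htriv _ (by rw [List.getD_eq_getElem _ _ hbl]; exact List.getElem_mem hbl))
  rw [act_nil, act_repWord] at h1
  have h2 := congrArg α h1
  rw [map_pow, map_one, act_six k (by simpa using hk) hlt α hu hv hw, ← act_repWord] at h2
  have h3 := realised.act_apply (φ := phi)
    (lt_repWord (lt_expand (lt_six k hlt) p) n) ⟨q, hq⟩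
  rw [h2, map_one] at h3
  dsimp only [Equiv.Perm.one_apply] at h3
  have hne := hmove
  rw [hgi, ← h3] at hne
  simp at hne

/-- The outer automorphism group has at most two elements. -/
theorem card_le_two : Nat.card (Cfsg.Out Cfsg.Spor.Suz) ≤ 2 := by
  haveI := card_suz.1
  haveI : Fact (Nat.Prime 13) := ⟨by norm_num⟩
  exact MathieuOut.card_out_le x_spec.1 card_13 closure_three vu
    (fun w hw => by rw [List.mem_singleton.1 hw]; exact wv) normaliser [1, 2] reps wList
    (fun _ h => w_list h) valid others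

/-! ## The outer automorphism -/

/-- The images of the generators. -/
def imgGen (g : ℕ) : Cfsg.Spor.Suz := act suzGen (imgWords.getD g [])

theorem lt_imgs : ∀ w ∈ imgWords, ∀ g ∈ w, g < tab.ng := fun w hw => lt_all w (by simp [hw])

theorem img_rel {r : List ℕ} (hr : r ∈ relData) : act imgGen r = 1 := by
  have h := img_rels
  simp only [List.all_eq_true] at h
  have e := eq_words (lt_expand lt_imgs r) lt_nil (h r hr)
  rwa [act_expand, act_nil] at e

theorem imgGen_sq (g : ℕ) (hg : g < 7) : imgGen g * imgGen g = 1 := by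
  have h := img_rel (r := [g, g]) (by interval_cases g <;> decide +kernel)
  simpa [act_cons, act_nil] using h

theorem lift_img (L : List (Cfsg.Spor.Suz.Gen × Bool)) :
    FreeGroup.lift (fun x => imgGen (genIx x)) (FreeGroup.mk L) =
      act imgGen (L.map fun p => genIx p.1).reverse := by
  induction L with
  | nil =>
    rw [← FreeGroup.one_eq_mk, map_one]
    rfl
  | cons p L ih =>
    obtain ⟨x, b⟩ := p
    rw [show FreeGroup.mk ((x, b) :: L) = FreeGroup.mk [(x, b)] * FreeGroup.mk L from rfl, map_mul,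
      ih, List.map_cons, List.reverse_cons, act_append, act_cons, act_nil, one_mul]
    congr 1
    cases b
    · have e : FreeGroup.mk [(x, false)] = (FreeGroup.of x)⁻¹ := rfl
      rw [e, map_inv, FreeGroup.lift_apply_of]
      exact inv_eq_of_mul_eq_one_right (imgGen_sq _ (suz_ok.ix_lt x))
    · exact FreeGroup.lift_apply_of

theorem img_suzRels : ∀ w ∈ suzData.rels, act imgGen w = 1 := by
  intro w hw
  have h := rels_covered
  simp only [CoxData.covered, List.all_eq_true, Bool.and_eq_true, Bool.or_eq_true, Nat.blt_eq,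
    List.contains_iff_mem] at h
  obtain ⟨hlt, hm | hm⟩ := h w hw
  · exact img_rel hm
  · have h2 := img_rel hm
    rwa [act_reverse (ng := 7) imgGen_sq hlt, inv_eq_one] at h2

/-- The endomorphism given by the images. -/
def alphaHom : Cfsg.Spor.Suz →* Cfsg.Spor.Suz :=
  PresentedGroup.toGroup (f := fun x => imgGen (genIx x)) fun r hr => by
    have hr' : r ∈ suzData.relList := CoxData.relList_mem.2 hr
    rw [← FreeGroup.mk_toWord (x := r), lift_img]
    exact img_suzRels _ (List.mem_map.2 ⟨r, hr', rfl⟩)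

theorem alpha_act {w : List ℕ} (hw : ∀ g ∈ w, g < tab.ng) :
    alphaHom (act suzGen w) = act suzGen (expand imgWords w) := by
  rw [map_act, act_expand]
  refine act_congr' fun a ha => ?_
  show alphaHom (PresentedGroup.of _) = imgGen a
  rw [alphaHom, PresentedGroup.toGroup.of]
  exact congrArg imgGen (suz_ok.ix_at a (hw a ha))

theorem alpha_bij : Function.Bijective alphaHom := by
  haveI := card_suz.1
  haveI := simple
  refine (Finite.injective_iff_bijective).1 ((MonoidHom.ker_eq_bot_iff _).1 ?_)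
  rcases (MonoidHom.normal_ker alphaHom).eq_bot_or_eq_top with h | h
  · exact h
  exfalso
  have e : act suzGen [0] ∈ alphaHom.ker := by rw [h]; trivial
  have ok0 : ∀ g ∈ [0], g < tab.ng := by
    intro g hg; rw [List.mem_singleton.1 hg]; decide +kernel
  rw [MonoidHom.mem_ker, alpha_act ok0] at e
  have e' := words_eq (lt_expand lt_imgs [0]) lt_nil (by rw [e, act_nil])
  rw [expand, List.flatMap_singleton, img_xv.2.2] at e'
  exact Bool.noConfusion e'

/-- The outer automorphism. -/
noncomputable def alpha : MulAut Cfsg.Spor.Suz := MulEquiv.ofBijective alphaHom alpha_bij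

theorem alpha_u : alpha xElt = xElt ^ 2 := by
  show alphaHom (act suzGen xWord) = _
  rw [alpha_act lt_x, eq_words (lt_expand lt_imgs _) (lt_append lt_x lt_x) img_xv.1,
    act_append, pow_two]
  rfl

theorem alpha_v : alpha vElt = vElt := by
  show alphaHom (act suzGen vWord) = _
  rw [alpha_act lt_v, eq_words (lt_expand lt_imgs _) lt_v img_xv.2.1]
  rfl

theorem alpha_outer (g : Cfsg.Spor.Suz) : MulAut.conj g ≠ alpha := by
  haveI := card_suz.1
  intro h
  have hu : g * xElt * g⁻¹ = xElt ^ 2 := by rw [← alpha_u, ← h]; rfl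
  have hv : g * vElt * g⁻¹ = vElt := by
    conv_rhs => rw [← alpha_v, ← h]
    rfl
  rw [mul_inv_eq_iff_eq_mul] at hu hv
  have h2 : phi (xElt ^ 2) (phi g pZero) = phi g pZero := by
    rw [← Equiv.Perm.mul_apply, ← map_mul, ← hu, map_mul, Equiv.Perm.mul_apply, u_pZero]
  have h1 : phi xElt (phi g pZero) = phi g pZero := by
    have e : xElt = (xElt ^ 2) ^ 7 := by
      rw [← pow_mul, show 2 * 7 = 13 + 1 from rfl, pow_succ, ← x_spec.1, pow_orderOf_eq_one, one_mul]
    rw [e]
    exact fix_pow h2 7
  obtain ⟨c, hc, rfl⟩ := conjList_complete realised suzGen_sq lt_v levelsV_ok card_levelsV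
    levelsV_card.2 cent_list (mem_fix0 (u_fix_only h1)) hv
  have hlt : ∀ a ∈ c, a < tab.ng := by
    have h := cent_list
    simp only [conjListOk, Bool.and_eq_true] at h
    exact wordsLt_spec h.1.1.1.1 c (List.mem_cons_of_mem _ hc)
  have hno := no_square
  simp only [List.all_eq_true, Bool.not_eq_true'] at hno
  have e := hno c hc
  rw [words_eq (lt_append lt_x hlt) (lt_append hlt (lt_append lt_x lt_x)) ?_] at e
  · exact Bool.noConfusion e
  rw [act_append, act_append, act_append]
  rw [pow_two] at hu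
  exact hu

/-- The outer automorphism group has two elements. -/
theorem card_out : Nat.card (Cfsg.Out Cfsg.Spor.Suz) = 2 := by
  haveI := card_suz.1
  exact le_antisymm card_le_two (MathieuOut.two_le_card_out alpha alpha_outer)

end CfsgLib.Suz.Out
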