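import Cfsg.Agent.Lib.Suz.Pres
import Cfsg.Agent.Lib.Suz.PermData
import Cfsg.Agent.Lib.PresCert.Orbits
import Cfsg.Agent.Lib.PresCert.SelfCent

/-!
Kernel checks of the action on 1782 points.
-/

set_option autoImplicit false
set_option maxRecDepth 100000

namespace CfsgLib.Suz

open CfsgLib.PresCert

/-- All checks of one kind for the two blocks. -/
def twoBlocks (P : ℕ → Bool) : Bool := P 0 && P 1

theorem two_blocks {P : ℕ → Bool} (h : twoBlocks P = true) {b : ℕ} (hb : 1000 * b < 1782) :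
    P b = true := by
  simp only [twoBlocks, Bool.and_eq_true] at h
  obtain rfl | rfl : b = 0 ∨ b = 1 := by omega
  exacts [h.1, h.2]

theorem tab_inv0 : twoBlocks tab.invBlock = true := by decide +kernel

/-- The defining relations, each once. -/
def relData : List (List ℕ) := [[0, 0], [0, 1, 0, 1, 0, 1, 0, 1, 0, 1], [0, 2, 0, 2], [0, 3, 0, 3], [0, 4, 0, 4], [0, 5, 0, 5], [0, 6, 0, 6], [1, 1], [1, 2, 1, 2, 1, 2], [1, 3, 1, 3], [1, 4, 1, 4], [1, 5, 1, 5, 1, 5], [1, 6, 1, 6, 1, 6], [2, 2], [2, 3, 2, 3, 2, 3, 2, 3, 2, 3, 2, 3, 2, 3, 2, 3], [2, 4, 2, 4], [2, 5, 2, 5], [2, 6, 2, 6], [3, 3], [3, 4, 3, 4, 3, 4], [3, 5, 3, 5], [3, 6, 3, 6], [4, 4], [4, 5, 4, 5], [4, 6, 4, 6], [5, 5], [5, 6, 5, 6, 5, 6, 5, 6], [6, 6], [0, 3, 2, 3, 2, 3, 2, 3, 2], [0, 6, 5, 6, 5], [0, 1, 2, 5, 0, 1, 2, 5, 0, 1, 2, 5, 0, 1, 2, 5, 0, 1, 2, 5], [1, 5, 6, 1, 5, 6, 1, 5, 6, 1, 5, 6, 1, 5, 6], [1, 2, 3, 2, 3, 1, 2, 3, 2, 3, 1, 2, 3, 2, 3, 1, 2, 3, 2, 3, 1, 2, 3, 2, 3, 4, 1, 2, 3,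 2, 3, 1, 2, 3, 2, 3, 1, 2, 3, 2, 3, 1, 2, 3, 2, 3, 1, 2, 3, 2, 3, 4, 1, 2, 3, 2, 3, 1, 2, 3, 2, 3, 1, 2, 3, 2, 3, 1, 2, 3, 2, 3, 1, 2, 3, 2, 3, 4]]

theorem rels_covered : suzData.covered relData = true := by decide +kernel

theorem tab_tree : twoBlocks (treeBlock tab 14 treePars) = true := by decide +kernel

theorem tab_levels : levelsOk tab [0] levelsS = true ∧
    (levelsS.map fun l => l.pts.length).prod = 251596800 ∧
    levelsS.all (fun l => l.gens.all fun w => w.all fun g => Nat.blt g 6) = true := by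
  decide +kernel

theorem tab_levelsF : levelsOk tab6 [] levelsF = true ∧
    (levelsF.map fun l => l.pts.length).prod = 19595520 ∧
    tab6.ng = 6 := by
  decide +kernel

theorem x_moves : twoBlocks (moveBlock tab xWord) = true := by decide +kernel

theorem tab_cycles : cycOk tab levelsS xWord 13 cycles = true := by decide +kernel

/-- The orbits of the stabiliser. -/
def forest : Forest where
  words := [[0], [1], [2], [3], [4], [5]]
  lab := look labels 256 2
  depth := look subDepth 256 8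
  parent p := look subPars 256 14 p / 8
  via p := look subPars 256 14 p % 8
  roots := subRoots

theorem forest_blocks : twoBlocks (forestBlock tab forest) = true := by decide +kernel

theorem forest_shape : forestShape tab forest = true := by decide +kernel

theorem forest_counts : ((List.range 3).map fun k =>
    ((List.range 1782).filter fun q => Nat.beq (forest.lab q) k).length) = [1, 416, 1365] ∧
    forest.roots.length = 3 ∧ forest.lab 0 = 0 := by
  decide +kernel

end CfsgLib.Suz
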