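import Cfsg.Agent.Lib.Suz.OutData
import Cfsg.Agent.Lib.Suz.PermCheck
import Cfsg.Agent.Lib.PresCert.Chain

/-!
# Kernel checks for the outer automorphisms of the Suzuki group
-/

set_option autoImplicit false
set_option maxRecDepth 100000
set_option maxHeartbeats 0

namespace CfsgLib.Suz.Out

open CfsgLib.PresCert

/-- The six words: powers of the element of order thirteen, the second and a third, with their
inverses. -/
def six (k : ℕ) (z : List ℕ) : List (List ℕ) :=
  let x := if k = 1 then xWord else xWord ++ xWord
  [x, vWord, z, x.reverse, vWord.reverse, z.reverse]

theorem words_lt : wordsLt tab ([xWord, vWord, wWord] ++ wWords ++ imgWords ++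
    entries.map (fun e => e.2)) = true := by decide +kernel

theorem levelsV_ok : levelsOk tab [0] levelsV = true := by decide +kernel

theorem levelsV_card : (levelsV.map fun l => l.pts.length).prod = 251596800 ∧
    chainBase tab vWord levelsV = true := by decide +kernel

theorem v_rels : Nat.beq (tab.walk 0 vWord) 0 = true ∧
    eqBase tab levelsV (xWord ++ vWord) (vWord ++ repWord 4 xWord) = true ∧
    eqBase tab levelsV vWord.reverse (repWord 5 vWord) = true ∧
    eqBase tab levelsV (repWord 6 vWord) [] = true ∧
    eqBase tab levelsV (vWord ++ wWord) (wWord ++ vWord.reverse) = true := by decide +kernel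

theorem v_fix : twoBlocks (fun b => (List.range 1000).all fun j =>
    !(Nat.blt (1000 * b + j) tab.n) || (entries.any fun e => Nat.beq (1000 * b + j) e.1) ||
      !(Nat.beq (tab.walk (1000 * b + j) vWord) (1000 * b + j))) = true := by decide +kernel

/-- Each fixed point: the word leads to it and commutes with the element of order six. -/
theorem entry_words : entries.all (fun e => Nat.beq (tab.walk 0 e.2) e.1 &&
    eqBase tab levelsV (vWord ++ e.2) (e.2 ++ vWord)) = true := by decide +kernel

theorem cent_list : conjListOk tab vWord vWord levelsV orbitMask centWords = true := by decide +kernel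

/-- The short words are the products. -/
theorem w_words : (List.range 6).all (fun j => (List.range 12).all fun i =>
    eqBase tab levelsV (centWords.getD i [] ++ (entries.getD j (0, [])).2 ++ wWord)
      (wWords.getD (12 * j + i) [])) = true ∧
    wWords.length = 72 ∧ centWords.length = 12 ∧ entries.length = 6 := by decide +kernel

/-- No listed element squares the element of order thirteen. -/
theorem no_square : centWords.all (fun c =>
    !(eqBase tab levelsV (xWord ++ c) (c ++ (xWord ++ xWord)))) = true := by decide +kernel

/-- The generators as products of the three elements and their inverses. -/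
theorem gen_ok : (List.range 7).all (fun g =>
    eqBase tab levelsV (expand (six 1 wWord) (genWords.getD g [])) [g]) = true := by decide +kernel

theorem bad_trivial : badWords.all (fun p =>
    eqBase tab levelsV (repWord p.2 (expand (six 1 wWord) p.1)) []) = true := by decide +kernel

/-- The false candidates. -/
theorem bad_ok : badData.all (fun c =>
    Nat.blt c.2.1 badWords.length && Nat.blt c.2.2 tab.n &&
      !(Nat.beq (tab.walk c.2.2 (repWord (badWords.getD c.2.1 ([], 0)).2
        (expand (six c.1.1 (wWords.getD c.1.2 [])) (badWords.getD c.2.1 ([], 0)).1))) c.2.2)) =
      true := by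
  decide +kernel

theorem bad_cover : [1, 2].all (fun k => (List.range wWords.length).all fun i =>
    decide ((k, i) = (1, 0) ∨ (k, i) = (2, 5)) || badData.any fun c => decide (c.1 = (k, i))) =
      true := by
  decide +kernel

theorem img_rels : relData.all (fun r => eqBase tab levelsV (expand imgWords r) []) = true := by
  decide +kernel

theorem img_xv : eqBase tab levelsV (expand imgWords xWord) (xWord ++ xWord) = true ∧
    eqBase tab levelsV (expand imgWords vWord) vWord = true ∧
    eqBase tab levelsV (imgWords.getD 0 []) [] = false := by
  decide +kernel

theorem base_lt : (0 :: levelsV.map Level.base).all (fun i => Nat.blt i tab.n) = true := by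
  decide +kernel

end CfsgLib.Suz.Out
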