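import Cfsg.Agent.Lib.Suz.PermData

/-!
# Data for the outer automorphisms of the Suzuki group

A base adapted to an element of order six of the normaliser of the element of order thirteen, the
elements carrying it to its inverse, the seven generators as products of three elements and their
inverses, and the images of the generators under an outer automorphism.
-/

set_option autoImplicit false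

namespace CfsgLib.Suz.Out

open CfsgLib.PresCert

/-- An element of order six normalising the element of order thirteen. -/
def vWord : List ℕ := [0, 1, 3, 2, 4, 3, 5, 1, 0, 1, 2, 3, 4, 5, 1, 2, 3, 1, 0, 1, 2, 3, 4, 0]

/-- The third generating element. -/
def wWord : List ℕ := [2, 3, 2, 5, 1, 2, 3, 2, 1, 3, 4, 3, 2, 1, 5, 3, 2, 1, 0, 6, 1, 2, 3, 2, 1, 4, 3, 6, 5, 1, 6]

/-- The elements of the point stabiliser commuting with the element of order six. -/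
def centWords : List (List ℕ) := [
  [],
  [1, 0, 1, 4, 3, 2, 1, 0, 3, 2, 1, 0, 1, 4, 5, 2, 3, 2, 3, 1, 2, 3, 4, 3, 0, 1, 2, 0],
  [2, 3, 2, 1, 0, 1, 3, 4, 3, 2, 5, 1, 0, 1, 5, 3, 2, 3, 4, 1, 2, 3, 0, 1, 2, 3, 0, 1],
  [0, 1, 4, 3, 2, 1, 3, 2, 1, 0, 4, 3, 2, 1, 5, 1, 2, 3, 4, 3, 0, 1, 2, 3, 1, 2, 3, 4, 1, 0],
  [0, 1, 0, 1, 2, 3, 4, 3, 2, 3, 2, 1, 0, 5, 1, 2, 3, 2, 1, 5, 4, 3, 1, 0, 1, 2, 3, 4, 1],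
  [1, 0, 3, 2, 3, 4, 3, 2, 5, 1, 0, 2, 1, 3, 5, 2, 3, 4, 1, 2, 3, 0, 1, 0, 1, 2, 3, 0],
  [1, 4, 3, 2, 1, 0, 3, 4, 5, 1, 2, 3, 2, 1, 5, 1, 0, 1, 2, 3, 2, 3, 4, 3, 2, 1, 0, 1, 0],
  [0, 2, 3, 2, 1, 4, 5, 1, 0, 2, 1, 3, 2, 4, 3, 1, 2, 0, 1, 5, 4, 1, 2, 3, 2, 0],
  [0, 2, 1, 0, 3, 4, 3, 2, 1, 3, 2, 3, 4, 5, 1, 0, 1, 2, 3, 0, 1, 2, 3, 4, 2, 1, 0, 1],
  [2, 5, 1, 0, 1, 2, 1, 3, 2, 3, 4, 3, 2, 1, 5, 3, 2, 3, 4, 3, 2, 3, 1, 2, 3, 1, 2, 1, 0, 1, 0],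
  [0, 4, 3, 2, 1, 0, 1, 3, 2, 1, 4, 3, 2, 5, 1, 0, 1, 5, 3, 4, 2, 3, 1, 0],
  [0, 1, 3, 2, 4, 3, 5, 1, 0, 1, 2, 3, 4, 5, 1, 2, 3, 1, 0, 1, 2, 3, 4, 0]]

/-- For each fixed point of the element of order six: an element commuting with it that moves the
first point there. -/
def entries : List (ℕ × List ℕ) := [
  (0, []),
  (466, [2, 4, 3, 2, 5, 1, 2, 3, 2, 1, 4, 3, 2, 3, 4, 1, 2, 3, 2, 1, 5, 4, 1, 0, 6, 1, 2, 3, 2, 1, 4, 3, 6, 5, 1, 6]),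
  (800, [0, 1, 2, 1, 0, 1, 3, 2, 3, 4, 5, 1, 2, 3, 4, 2, 0, 1, 0, 1, 2, 1, 6, 1, 0, 2, 1, 3, 2, 3, 4, 3, 2, 5, 1, 2]),
  (1636, [2, 1, 0, 1, 2, 4, 3, 2, 3, 4, 5, 1, 0, 1, 5, 2, 3, 1, 2, 3, 2, 1, 0, 6, 1, 2, 3, 2, 4, 3, 2, 1, 0, 5, 1, 0, 2, 1, 5]),
  (1694, [1, 2, 1, 4, 3, 2, 1, 3, 5, 1, 0, 1, 2, 3, 4, 2, 3, 2, 1, 5, 1, 2, 3, 1, 0, 6, 1, 0, 2, 1, 3, 2, 1, 3, 4, 3, 2, 3, 4, 5, 1, 2]),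
  (1743, [1, 2, 3, 2, 1, 3, 2, 4, 5, 1, 2, 3, 2, 4, 3, 0, 1, 0, 1, 2, 1, 6, 1, 0, 2, 3, 2, 1, 0, 4, 5, 1, 2, 3, 2, 1, 0, 6])]

/-- Short words for the possible images of the third element. -/
def wWords : List (List ℕ) := [
  [2, 3, 2, 5, 1, 2, 3, 2, 1, 3, 4, 3, 2, 1, 5, 3, 2, 1, 0, 6, 1, 2, 3, 2, 1, 4, 3, 6, 5, 1, 6],
  [0, 2, 1, 0, 3, 5, 1, 2, 3, 2, 1, 0, 4, 5, 1, 2, 3, 2, 1, 5, 3, 4, 2, 3, 2, 0, 1, 0, 1, 2, 6, 1, 2, 3, 2, 1, 4, 3, 6, 5, 1, 6],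
  [1, 2, 1, 0, 1, 0, 2, 3, 2, 4, 3, 2, 1, 0, 1, 2, 3, 4, 2, 3, 2, 1, 5, 3, 1, 2, 3, 4, 2, 6, 1, 2, 3, 2, 1, 4, 3, 6, 5, 1, 6],
  [0, 1, 3, 2, 5, 1, 0, 2, 3, 2, 1, 4, 3, 2, 5, 3, 1, 2, 3, 4, 3, 2, 3, 1, 2, 1, 0, 1, 5, 1, 2, 1, 6, 1, 2, 3, 2, 1, 4, 3, 6, 5, 1, 6],
  [4, 3, 2, 3, 2, 1, 5, 1, 0, 1, 2, 3, 4, 5, 3, 2, 3, 1, 2, 3, 4, 3, 1, 2, 3, 2, 6, 1, 2, 3, 2, 1, 4, 3, 6, 5, 1, 6],
  [1, 2, 3, 4, 3, 2, 3, 2, 5, 1, 0, 1, 2, 3, 2, 1, 5, 3, 4, 3, 1, 2, 3, 0, 1, 0, 1, 6, 1, 2, 3, 2, 1, 4, 3, 6, 5, 1, 6],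
  [1, 0, 1, 0, 3, 4, 3, 2, 1, 0, 3, 2, 3, 5, 1, 2, 3, 4, 2, 3, 2, 1, 0, 1, 5, 3, 2, 1, 6, 1, 2, 3, 2, 1, 4, 3, 6, 5, 1, 6],
  [1, 0, 4, 3, 2, 1, 0, 3, 2, 5, 1, 0, 1, 2, 3, 2, 3, 4, 3, 1, 2, 3, 1, 2, 3, 4, 3, 1, 2, 1, 0, 6, 1, 2, 3, 2, 1, 4, 3, 6, 5, 1, 6],
  [3, 4, 5, 1, 0, 1, 2, 3, 2, 3, 4, 5, 1, 2, 3, 0, 1, 0, 1, 2, 3, 4, 1, 2, 3, 2, 6, 1, 2, 3, 2, 1, 4, 3, 6, 5, 1, 6],
  [2, 3, 4, 3, 2, 1, 3, 4, 5, 1, 2, 3, 2, 1, 5, 2, 3, 4, 3, 1, 2, 3, 1, 2, 0, 1, 5, 2, 3, 0, 6, 1, 2, 3, 2, 1, 4, 3, 6, 5, 1, 6],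
  [0, 1, 0, 1, 2, 1, 3, 2, 1, 3, 4, 5, 1, 0, 1, 2, 3, 2, 1, 5, 2, 3, 4, 1, 0, 1, 2, 0, 6, 1, 2, 3, 2, 1, 4, 3, 6, 5, 1, 6],
  [0, 3, 5, 1, 2, 3, 2, 1, 4, 3, 2, 1, 3, 4, 5, 1, 0, 1, 2, 3, 2, 1, 5, 3, 0, 6, 1, 2, 3, 2, 1, 4, 3, 6, 5, 1, 6],
  [1, 0, 4, 5, 1, 0, 2, 1, 3, 2, 1, 4, 3, 2, 3, 4, 1, 0, 1, 2, 3, 2, 1, 5, 2, 0, 1],
  [2, 1, 3, 2, 3, 2, 4, 3, 2, 3, 5, 1, 0, 2, 1, 5, 3, 1, 2, 3, 4, 2, 3, 2, 3, 1, 2],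
  [0, 4, 3, 2, 1, 0, 1, 0, 3, 2, 3, 4],
  [0, 2, 1, 0, 3, 4, 3, 2, 1, 0, 3, 2, 3, 5, 1, 2, 3, 4, 3, 0, 1, 2, 0],
  [1, 0, 1, 3, 4, 3, 2, 3, 5, 1, 0, 1, 2, 1, 5, 3, 4, 2, 3, 2, 1, 0, 1, 5, 2, 3, 4, 2, 3, 0, 1, 2, 0],
  [0, 3, 2, 1, 3, 2, 4, 3, 2, 1, 0, 1, 2, 3, 5, 4, 2, 3, 1, 2, 3, 1, 0, 1, 2, 0, 1, 5, 4, 3, 2, 3],
  [0, 1, 0, 1, 2, 3, 4, 3, 2, 3, 2, 1, 0, 5, 1, 2, 3, 2, 1, 5, 4, 3, 1, 2, 3, 1, 0, 1, 2, 3, 4],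
  [0, 4, 3, 2, 3, 4, 5, 1, 2, 3, 2, 1, 0, 1, 3, 2, 3, 2, 1, 5, 4, 3, 2, 3, 4, 0],
  [1, 0, 1, 4, 3, 2, 3, 4, 5, 1, 2, 3, 2, 1, 0, 1, 2, 3, 2, 1, 5, 4, 2, 3, 2, 3, 4, 1, 0, 1],
  [0, 2, 1, 3, 2, 4, 5, 1, 0, 2, 1, 3, 2, 4, 5, 3, 1, 2, 0, 1, 5, 4, 2, 3, 1, 2, 0],
  [0, 1, 3, 2, 3, 4, 3, 5, 1, 0, 1, 2, 3, 5, 1, 0],
  [1, 3, 2, 1, 5, 1, 2, 3, 2, 4, 3, 2, 1, 0, 5, 1, 2, 3, 4, 3, 1, 2, 3, 1, 0, 1, 2, 0, 1, 5],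
  [0, 4, 5, 1, 0, 1, 0, 2, 3, 2, 1, 0, 4, 3, 2, 1, 5, 3, 4, 2, 3, 1, 0, 1, 2, 3, 1, 2, 0, 1, 6, 1, 0, 2, 3, 2, 1, 0, 4, 5, 1, 2, 3, 2, 1, 0, 6],
  [0, 1, 0, 2, 3, 2, 1, 4, 3, 2, 3, 5, 1, 2, 3, 4, 3, 0, 1, 2, 3, 2, 1, 5, 4, 3, 1, 0, 6, 1, 0, 2, 3, 2, 1, 0, 4, 5, 1, 2, 3, 2, 1, 0, 6],
  [1, 0, 3, 2, 1, 3, 2, 3, 2, 1, 5, 1, 2, 3, 4, 3, 2, 3, 1, 2, 3, 4, 3, 2, 1, 0, 1, 2, 1, 6, 1, 0, 2, 3, 2, 1, 0, 4, 5, 1, 2, 3, 2, 1, 0, 6],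
  [3, 4, 3, 2, 1, 3, 2, 1, 0, 1, 2, 3, 4, 5, 3, 0, 1, 2, 3, 2, 1, 0, 1, 5, 4, 3, 1, 2, 0, 1, 6, 1, 0, 2, 3, 2, 1, 0, 4, 5, 1, 2, 3, 2, 1, 0, 6],
  [1, 4, 3, 2, 5, 1, 0, 1, 2, 3, 2, 4, 3, 2, 3, 1, 2, 0, 1, 5, 4, 3, 1, 2, 0, 1, 0, 6, 1, 0, 2, 3, 2, 1, 0, 4, 5, 1, 2, 3, 2, 1, 0, 6],
  [0, 1, 0, 1, 2, 3, 2, 4, 3, 2, 1, 3, 2, 3, 4, 0, 1, 2, 3, 2, 1, 5, 3, 2, 3, 1, 0, 1, 6, 1, 0, 2, 3, 2, 1, 0, 4, 5, 1, 2, 3, 2, 1, 0, 6],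
  [0, 2, 1, 3, 2, 1, 3, 2, 4, 5, 1, 0, 2, 3, 4, 1, 2, 3, 1, 2, 0, 1, 5, 4, 3, 1, 2, 3, 1, 6, 1, 0, 2, 3, 2, 1, 0, 4, 5, 1, 2, 3, 2, 1, 0, 6],
  [0, 1, 3, 4, 3, 2, 3, 2, 5, 1, 2, 3, 2, 4, 3, 2, 1, 5, 0, 1, 2, 3, 4, 3, 2, 3, 1, 2, 3, 1, 0, 6, 1, 0, 2, 3, 2, 1, 0, 4, 5, 1, 2, 3, 2, 1, 0, 6],
  [2, 5, 1, 0, 2, 1, 3, 2, 3, 2, 1, 0, 1, 4, 3, 2, 3, 2, 1, 5, 1, 2, 3, 4, 3, 1, 2, 3, 6, 1, 0, 2, 3, 2, 1, 0, 4, 5, 1, 2, 3, 2, 1, 0, 6],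
  [0, 5, 1, 2, 3, 2, 1, 0, 1, 0, 4, 5, 1, 2, 3, 2, 1, 5, 2, 3, 4, 3, 2, 3, 2, 6, 1, 0, 2, 3, 2, 1, 0, 4, 5, 1, 2, 3, 2, 1, 0, 6],
  [0, 2, 1, 0, 1, 0, 2, 4, 3, 2, 5, 1, 2, 3, 4, 2, 3, 1, 0, 1, 2, 3, 4, 1, 2, 1, 0, 6, 1, 0, 2, 3, 2, 1, 0, 4, 5, 1, 2, 3, 2, 1, 0, 6],
  [0, 3, 2, 1, 0, 1, 0, 2, 3, 2, 1, 5, 1, 0, 1, 2, 3, 4, 2, 3, 2, 1, 0, 1, 5, 3, 4, 1, 2, 6, 1, 0, 2, 3, 2, 1, 0, 4, 5, 1, 2, 3, 2, 1, 0, 6],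
  [5, 1, 0, 2, 1, 3, 2, 1, 3, 2, 4, 3, 2, 1, 5, 0, 1, 2, 3, 2, 3, 4, 3, 1, 2, 3, 1, 2, 6, 1, 0, 2, 1, 3, 2, 1, 3, 4, 3, 2, 3, 4, 5, 1, 2],
  [2, 1, 3, 5, 1, 0, 2, 1, 0, 3, 2, 1, 3, 4, 5, 2, 3, 2, 1, 0, 1, 5, 4, 3, 1, 6, 1, 0, 2, 1, 3, 2, 1, 3, 4, 3, 2, 3, 4, 5, 1, 2],
  [2, 3, 2, 1, 5, 1, 0, 1, 2, 3, 2, 1, 4, 3, 2, 3, 4, 2, 3, 1, 2, 3, 2, 1, 5, 0, 1, 2, 0, 1, 0, 6, 1, 0, 2, 1, 3, 2, 1, 3, 4, 3, 2, 3, 4, 5, 1, 2],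
  [1, 0, 1, 0, 2, 3, 4, 3, 5, 1, 0, 1, 2, 3, 5, 2, 1, 0, 1, 2, 3, 4, 2, 3, 2, 1, 0, 6, 1, 0, 2, 1, 3, 2, 1, 3, 4, 3, 2, 3, 4, 5, 1, 2],
  [1, 0, 1, 0, 2, 1, 3, 4, 3, 2, 5, 1, 2, 3, 4, 0, 1, 2, 3, 2, 1, 5, 1, 0, 6, 1, 0, 2, 1, 3, 2, 1, 3, 4, 3, 2, 3, 4, 5, 1, 2],
  [0, 2, 1, 3, 4, 3, 2, 3, 2, 1, 4, 3, 5, 1, 2, 3, 4, 1, 2, 3, 1, 2, 0, 1, 5, 2, 3, 2, 0, 1, 6, 1, 0, 2, 1, 3, 2, 1, 3, 4, 3, 2, 3, 4, 5, 1, 2],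
  [0, 1, 2, 1, 0, 1, 3, 2, 3, 2, 4, 3, 5, 1, 0, 1, 2, 3, 1, 2, 0, 1, 5, 4, 1, 2, 6, 1, 0, 2, 1, 3, 2, 1, 3, 4, 3, 2, 3, 4, 5, 1, 2],
  [0, 2, 1, 3, 2, 3, 2, 4, 3, 5, 1, 2, 3, 2, 1, 5, 2, 3, 4, 3, 0, 1, 2, 3, 2, 1, 5, 2, 3, 4, 6, 1, 0, 2, 1, 3, 2, 1, 3, 4, 3, 2, 3, 4, 5, 1, 2],
  [1, 0, 1, 0, 2, 3, 4, 3, 5, 1, 2, 3, 2, 1, 5, 4, 1, 2, 3, 0, 1, 2, 0, 1, 5, 4, 2, 1, 6, 1, 0, 2, 1, 3, 2, 1, 3, 4, 3, 2, 3, 4, 5, 1, 2],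
  [1, 0, 1, 2, 3, 4, 5, 1, 0, 2, 1, 0, 3, 2, 1, 5, 1, 2, 3, 4, 1, 2, 3, 2, 1, 0, 6, 1, 0, 2, 1, 3, 2, 1, 3, 4, 3, 2, 3, 4, 5, 1, 2],
  [2, 1, 4, 3, 2, 3, 5, 1, 0, 1, 2, 3, 4, 5, 1, 2, 3, 2, 1, 0, 1, 2, 3, 4, 2, 3, 0, 1, 2, 3, 6, 1, 0, 2, 1, 3, 2, 1, 3, 4, 3, 2, 3, 4, 5, 1, 2],
  [1, 3, 2, 1, 3, 2, 3, 4, 3, 2, 1, 3, 2, 3, 5, 4, 0, 1, 2, 3, 0, 1, 2, 3, 4, 3, 0, 6, 1, 0, 2, 1, 3, 2, 1, 3, 4, 3, 2, 3, 4, 5, 1, 2],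
  [2, 3, 2, 1, 0, 5, 1, 0, 2, 1, 3, 2, 4, 3, 5, 2, 1, 0, 1, 5, 3, 4, 1, 2, 0, 6, 1, 2, 3, 2, 4, 3, 2, 1, 0, 5, 1, 0, 2, 1, 5],
  [5, 1, 0, 2, 1, 0, 5, 1, 2, 3, 2, 4, 3, 2, 3, 1, 2, 3, 0, 6, 1, 2, 3, 2, 4, 3, 2, 1, 0, 5, 1, 0, 2, 1, 5],
  [3, 4, 5, 1, 0, 2, 1, 0, 3, 4, 5, 1, 2, 3, 0, 1, 2, 3, 4, 0, 1, 2, 3, 2, 1, 5, 3, 6, 1, 2, 3, 2, 4, 3, 2, 1, 0, 5, 1, 0, 2, 1, 5],
  [1, 0, 2, 1, 0, 3, 2, 1, 3, 2, 4, 3, 2, 1, 5, 3, 2, 3, 1, 2, 0, 1, 5, 4, 3, 2, 3, 4, 6, 1, 2, 3, 2, 4, 3, 2, 1, 0, 5, 1, 0, 2, 1, 5],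
  [1, 0, 1, 2, 3, 4, 5, 1, 0, 2, 1, 0, 3, 2, 1, 5, 3, 0, 1, 2, 0, 1, 0, 6, 1, 2, 3, 2, 4, 3, 2, 1, 0, 5, 1, 0, 2, 1, 5],
  [1, 2, 5, 1, 2, 3, 2, 1, 0, 4, 3, 2, 1, 5, 1, 2, 3, 4, 2, 3, 1, 2, 3, 2, 1, 5, 2, 3, 4, 2, 1, 6, 1, 2, 3, 2, 4, 3, 2, 1, 0, 5, 1, 0, 2, 1, 5],
  [1, 4, 3, 2, 1, 3, 2, 5, 1, 0, 2, 3, 2, 4, 3, 1, 2, 1, 0, 1, 5, 3, 2, 3, 4, 3, 1, 2, 3, 0, 6, 1, 2, 3, 2, 4, 3, 2, 1, 0, 5, 1, 0, 2, 1, 5],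
  [2, 1, 3, 2, 1, 4, 3, 2, 5, 1, 2, 3, 2, 1, 0, 1, 5, 3, 2, 3, 4, 3, 2, 3, 1, 0, 1, 2, 0, 6, 1, 2, 3, 2, 4, 3, 2, 1, 0, 5, 1, 0, 2, 1, 5],
  [0, 4, 3, 2, 1, 3, 2, 4, 3, 5, 1, 0, 1, 2, 3, 2, 1, 5, 4, 1, 2, 3, 2, 1, 0, 1, 5, 3, 4, 3, 0, 6, 1, 2, 3, 2, 4, 3, 2, 1, 0, 5, 1, 0, 2, 1, 5],
  [0, 1, 0, 1, 3, 2, 1, 3, 4, 3, 2, 3, 4, 5, 1, 0, 1, 2, 3, 2, 1, 0, 1, 5, 4, 3, 0, 6, 1, 2, 3, 2, 4, 3, 2, 1, 0, 5, 1, 0, 2, 1, 5],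
  [1, 0, 2, 1, 0, 1, 3, 4, 3, 5, 1, 2, 3, 2, 4, 3, 1, 2, 3, 2, 1, 5, 4, 3, 1, 0, 1, 2, 1, 6, 1, 2, 3, 2, 4, 3, 2, 1, 0, 5, 1, 0, 2, 1, 5],
  [0, 1, 4, 3, 2, 1, 3, 2, 1, 4, 5, 1, 2, 3, 4, 0, 1, 2, 3, 2, 1, 5, 4, 0, 1, 0, 6, 1, 2, 3, 2, 4, 3, 2, 1, 0, 5, 1, 0, 2, 1, 5],
  [1, 2, 1, 0, 1, 3, 4, 3, 2, 1, 3, 5, 1, 2, 3, 2, 1, 0, 1, 5, 4, 3, 2, 3, 4, 6, 1, 0, 2, 1, 3, 2, 3, 4, 3, 2, 5, 1, 2],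
  [4, 3, 2, 1, 5, 1, 0, 1, 2, 1, 3, 2, 4, 3, 2, 0, 1, 5, 0, 1, 2, 0, 6, 1, 0, 2, 1, 3, 2, 3, 4, 3, 2, 5, 1, 2],
  [1, 0, 2, 3, 4, 3, 2, 1, 0, 3, 2, 1, 3, 2, 4, 3, 2, 1, 5, 4, 1, 2, 3, 2, 1, 0, 6, 1, 0, 2, 1, 3, 2, 3, 4, 3, 2, 5, 1, 2],
  [4, 3, 2, 1, 0, 3, 2, 1, 0, 3, 2, 4, 3, 5, 1, 0, 1, 2, 3, 4, 1, 2, 3, 2, 1, 5, 3, 2, 0, 6, 1, 0, 2, 1, 3, 2, 3, 4, 3, 2, 5, 1, 2],
  [1, 2, 1, 0, 1, 3, 2, 4, 3, 5, 1, 0, 1, 0, 2, 1, 5, 2, 3, 4, 3, 2, 3, 1, 2, 0, 1, 0, 1, 6, 1, 0, 2, 1, 3, 2, 3, 4, 3, 2, 5, 1, 2],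
  [1, 3, 2, 1, 0, 1, 0, 2, 3, 4, 5, 1, 2, 3, 4, 2, 3, 0, 1, 2, 0, 1, 5, 2, 3, 4, 1, 2, 3, 0, 6, 1, 0, 2, 1, 3, 2, 3, 4, 3, 2, 5, 1, 2],
  [0, 1, 2, 1, 3, 2, 4, 3, 2, 1, 3, 2, 4, 3, 5, 0, 1, 2, 3, 4, 3, 2, 3, 1, 2, 3, 4, 1, 6, 1, 0, 2, 1, 3, 2, 3, 4, 3, 2, 5, 1, 2],
  [2, 1, 0, 5, 1, 0, 2, 1, 3, 2, 3, 2, 4, 3, 2, 1, 5, 2, 3, 4, 2, 3, 1, 2, 0, 1, 5, 2, 1, 6, 1, 0, 2, 1, 3, 2, 3, 4, 3, 2, 5, 1, 2],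
  [3, 2, 3, 4, 5, 1, 0, 1, 2, 3, 2, 1, 4, 5, 3, 1, 0, 1, 2, 3, 2, 1, 5, 2, 3, 6, 1, 0, 2, 1, 3, 2, 3, 4, 3, 2, 5, 1, 2],
  [1, 2, 4, 3, 2, 1, 0, 1, 2, 3, 2, 1, 4, 3, 5, 0, 1, 2, 3, 1, 2, 0, 1, 5, 1, 2, 0, 6, 1, 0, 2, 1, 3, 2, 3, 4, 3, 2, 5, 1, 2],
  [0, 1, 2, 3, 2, 3, 4, 3, 5, 1, 2, 3, 2, 1, 5, 4, 3, 2, 3, 1, 2, 0, 1, 5, 3, 4, 2, 3, 0, 1, 2, 1, 6, 1, 0, 2, 1, 3, 2, 3, 4, 3, 2, 5, 1, 2],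
  [2, 1, 3, 2, 3, 2, 4, 3, 2, 1, 0, 1, 5, 1, 2, 3, 4, 2, 3, 0, 1, 0, 1, 2, 3, 0, 1, 2, 3, 4, 6, 1, 0, 2, 1, 3, 2, 3, 4, 3, 2, 5, 1, 2]]

/-- The bits of the second orbit of the base. -/
def orbitMask : ℕ := 0x338005d20c00000000007500000000008000804ac380200121802000000000000000000000000004701c30000040000000000000080100f00583c28880048c000e326382258240c000000000000000000000059c01240010000000000000000060380fe0611c450400100c40001f0fc03800900220800000000000000059801200400000000000c386ee043054001cc5000cff8d4344250000000000c030530000000247eee1ac8852503077111100000014484c00001274eba44444fd88800001a694800027e1101310000c04000282190008000691000000000000000000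

/-- The seven generators as words in the three elements and their inverses. -/
def genWords : List (List ℕ) := [
  [0, 2, 0, 2, 0, 0, 2, 3, 2, 3, 3, 5, 3, 5, 2, 0, 0, 2, 0, 0, 2, 0, 0, 2, 3, 3, 5, 3, 3, 5, 2, 0, 1, 2, 3, 1, 2, 0, 2, 4, 0, 5, 4, 3, 5, 3, 2, 0, 0, 2, 0, 0, 5, 3, 3, 5, 3, 3, 5, 3, 3, 5, 2, 0, 1, 2, 3, 1, 5, 3, 5, 4, 0, 5, 4, 3, 5, 2, 0, 2, 0, 0, 5, 0, 5, 3, 3, 5, 3, 5],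
  [3, 2, 0, 2, 1, 3, 1, 2, 3, 2, 4, 0, 4, 5, 3, 5, 0, 2, 0, 1, 2, 3, 5, 0, 5, 4, 3, 3, 5, 3, 3, 5, 2, 3, 4, 0, 4, 3, 5, 2, 0, 0, 2, 3, 2, 0, 0, 2, 3, 5, 3, 5, 3, 5, 2, 0, 5, 0, 0, 5, 4, 3, 5, 3, 3, 5, 3],
  [0, 2, 0, 0, 2, 3, 2, 0, 0, 2, 3, 5, 3, 5, 3, 5, 3, 3, 2, 0, 0, 2, 0, 0, 2, 0, 0, 2, 3, 3, 5, 3, 3, 5, 2, 0, 1, 2, 3, 5, 0, 5, 4, 3, 3, 5, 3, 3, 5, 2, 0, 0, 2, 3, 2, 0, 0, 2, 3, 5, 3, 5, 3, 5, 2, 0, 1, 2, 3, 5, 0, 5, 4, 3, 3, 5, 3, 3, 5],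
  [4, 2, 0, 0, 2, 0, 0, 2, 0, 0, 2, 3, 3, 5, 3, 3, 5, 2, 0, 5, 0, 0, 5, 4, 3, 5, 3, 3, 5, 2, 2, 2, 0, 1, 2, 3, 1, 2, 0, 2, 4, 0, 5, 4, 3, 5, 2, 0, 5, 0, 0, 5, 4, 3, 5, 3, 3, 5, 2, 0, 1, 2, 3, 1, 5, 3, 5, 4, 0, 5, 4, 3, 5, 0],
  [0, 2, 0, 1, 2, 3, 5, 0, 5, 4, 3, 3, 5, 3, 3, 5, 2, 0, 0, 2, 0, 1, 2, 3, 3, 2, 3, 5, 0, 2, 0, 1, 2, 3, 1, 2, 0, 2, 4, 0, 5, 4, 3, 5, 2, 0, 5, 0, 0, 5, 4, 3, 5, 3, 3, 5, 2, 0, 2, 1, 3, 1, 5, 0, 5, 4, 0, 4, 5, 3, 5, 2, 0, 0, 2, 3, 5, 0, 0, 5, 0, 5, 3, 3, 5],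
  [4, 2, 0, 1, 2, 3, 1, 2, 0, 2, 4, 0, 5, 4, 3, 5, 1, 2, 0, 2, 0, 0, 2, 3, 2, 3, 3, 5, 3, 5, 2, 0, 1, 2, 3, 1, 2, 0, 2, 4, 0, 5, 4, 3, 5, 2, 0, 0, 2, 3, 2, 0, 0, 2, 3, 5, 3, 5, 3, 5, 2, 0, 0, 2, 3, 5, 0, 0, 5, 0, 5, 3, 3, 5, 2, 0, 0, 2, 0, 0, 1, 2, 3, 2, 0, 5, 4, 3, 5],
  [4, 0, 2, 0, 5, 0, 0, 5, 4, 3, 5, 3, 3, 5, 2, 0, 1, 2, 3, 5, 0, 5, 4, 3, 3, 5, 3, 3, 5, 2, 0, 1, 2, 3, 1, 2, 0, 2, 4, 0, 5, 4, 3, 5, 2, 0, 5, 0, 0, 5, 4, 3, 5, 3, 3, 5, 2, 0, 1, 2, 3, 1, 5, 3, 5, 4, 0, 5, 4, 3, 5, 4, 2, 0, 1, 2, 3, 3, 4, 5, 0]]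

/-- The images of the seven generators under an outer automorphism. -/
def imgWords : List (List ℕ) := [
  [1, 5, 1, 2, 3, 2, 4, 3, 2, 1, 0, 1, 2, 3, 4, 1, 2, 3, 2, 1, 5, 1],
  [0, 3, 2, 1, 4, 3, 2, 3, 4, 5, 1, 0, 2, 3],
  [1, 2, 5, 1, 0, 1, 2, 3, 2, 1, 4, 3, 2, 3, 4, 0, 1, 2, 3, 2, 1, 0, 1, 5, 2, 1],
  [1, 2, 4, 3, 2, 1, 0, 1, 2, 3, 2, 4, 3, 5, 1, 2, 3, 1, 0, 1, 2, 0, 1, 5, 4, 0],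
  [0, 1, 2, 3, 2, 3, 4, 5, 1, 2, 3, 2, 1, 3, 5, 4, 2, 3, 1, 2, 3, 2, 1, 5, 4, 3, 2, 3, 2, 1, 0],
  [1, 5, 1, 2, 3, 2, 4, 3, 2, 1, 0, 1, 5, 1, 2, 3, 4, 1, 0, 1, 2, 3, 2, 1, 5],
  [2, 5, 1, 0, 2, 3, 2, 1, 4, 3, 2, 3, 5, 1, 2, 0, 1, 5, 2, 3, 6, 1, 0, 2, 1, 3, 2, 4, 3, 2, 6, 1, 5, 1]]

/-- The words that separate the candidates, with exponents. -/
def badWords : List (List ℕ × ℕ) := [
  ([0, 2], 10),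
  ([0, 0, 2, 3, 5], 3),
  ([0, 0, 2], 9)]

/-- For each false candidate: a separating word and a point moved by its image. -/
def badData : List ((ℕ × ℕ) × ℕ × ℕ) := [
  ((1, 1), 0, 0),
  ((1, 2), 0, 0),
  ((1, 3), 0, 0),
  ((1, 4), 0, 0),
  ((1, 5), 0, 0),
  ((1, 6), 0, 0),
  ((1, 7), 1, 0),
  ((1, 8), 0, 0),
  ((1, 9), 0, 0),
  ((1, 10), 0, 0),
  ((1, 11), 0, 0),
  ((1, 12), 0, 1),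
  ((1, 13), 0, 1),
  ((1, 14), 0, 1),
  ((1, 15), 0, 1),
  ((1, 16), 2, 1),
  ((1, 17), 0, 1),
  ((1, 18), 0, 1),
  ((1, 19), 0, 1),
  ((1, 20), 2, 1),
  ((1, 21), 0, 1),
  ((1, 22), 0, 1),
  ((1, 23), 0, 1),
  ((1, 24), 0, 0),
  ((1, 25), 0, 0),
  ((1, 26), 0, 0),
  ((1, 27), 0, 0),
  ((1, 28), 0, 0),
  ((1, 29), 0, 0),
  ((1, 30), 0, 0),
  ((1, 31), 0, 0),
  ((1, 32), 0, 0),
  ((1, 33), 0, 0),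
  ((1, 34), 0, 0),
  ((1, 35), 0, 0),
  ((1, 36), 0, 0),
  ((1, 37), 0, 0),
  ((1, 38), 0, 0),
  ((1, 39), 2, 0),
  ((1, 40), 0, 0),
  ((1, 41), 0, 0),
  ((1, 42), 0, 0),
  ((1, 43), 0, 2),
  ((1, 44), 0, 0),
  ((1, 45), 2, 0),
  ((1, 46), 0, 0),
  ((1, 47), 0, 0),
  ((1, 48), 0, 0),
  ((1, 49), 0, 0),
  ((1, 50), 0, 0),
  ((1, 51), 0, 0),
  ((1, 52), 0, 0),
  ((1, 53), 0, 0),
  ((1, 54), 0, 0),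
  ((1, 55), 0, 0),
  ((1, 56), 0, 0),
  ((1, 57), 0, 0),
  ((1, 58), 0, 0),
  ((1, 59), 0, 0),
  ((1, 60), 0, 0),
  ((1, 61), 0, 0),
  ((1, 62), 0, 0),
  ((1, 63), 0, 0),
  ((1, 64), 0, 0),
  ((1, 65), 0, 0),
  ((1, 66), 0, 0),
  ((1, 67), 0, 0),
  ((1, 68), 0, 0),
  ((1, 69), 2, 0),
  ((1, 70), 0, 0),
  ((1, 71), 0, 0),
  ((2, 0), 0, 0),
  ((2, 1), 0, 0),
  ((2, 2), 0, 0),
  ((2, 3), 0, 0),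
  ((2, 4), 0, 0),
  ((2, 6), 0, 0),
  ((2, 7), 0, 0),
  ((2, 8), 0, 0),
  ((2, 9), 0, 0),
  ((2, 10), 1, 0),
  ((2, 11), 0, 0),
  ((2, 12), 0, 1),
  ((2, 13), 2, 1),
  ((2, 14), 0, 1),
  ((2, 15), 0, 1),
  ((2, 16), 0, 1),
  ((2, 17), 0, 1),
  ((2, 18), 0, 1),
  ((2, 19), 0, 1),
  ((2, 20), 0, 1),
  ((2, 21), 2, 1),
  ((2, 22), 0, 1),
  ((2, 23), 0, 1),
  ((2, 24), 0, 0),
  ((2, 25), 0, 0),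
  ((2, 26), 0, 0),
  ((2, 27), 0, 0),
  ((2, 28), 0, 0),
  ((2, 29), 0, 0),
  ((2, 30), 0, 0),
  ((2, 31), 0, 0),
  ((2, 32), 0, 0),
  ((2, 33), 0, 0),
  ((2, 34), 0, 0),
  ((2, 35), 0, 0),
  ((2, 36), 0, 0),
  ((2, 37), 0, 0),
  ((2, 38), 0, 0),
  ((2, 39), 0, 0),
  ((2, 40), 0, 0),
  ((2, 41), 0, 0),
  ((2, 42), 0, 0),
  ((2, 43), 0, 0),
  ((2, 44), 0, 0),
  ((2, 45), 0, 0),
  ((2, 46), 2, 0),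
  ((2, 47), 0, 0),
  ((2, 48), 0, 0),
  ((2, 49), 0, 0),
  ((2, 50), 0, 0),
  ((2, 51), 0, 0),
  ((2, 52), 0, 0),
  ((2, 53), 0, 0),
  ((2, 54), 0, 0),
  ((2, 55), 0, 0),
  ((2, 56), 0, 0),
  ((2, 57), 0, 0),
  ((2, 58), 0, 0),
  ((2, 59), 0, 0),
  ((2, 60), 0, 0),
  ((2, 61), 0, 0),
  ((2, 62), 0, 0),
  ((2, 63), 0, 0),
  ((2, 64), 0, 0),
  ((2, 65), 2, 0),
  ((2, 66), 0, 1),
  ((2, 67), 0, 0),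
  ((2, 68), 0, 0),
  ((2, 69), 0, 0),
  ((2, 70), 2, 0),
  ((2, 71), 0, 0)]

/-- A base along a cycle of the element of order six. -/
def levelsV : List Level := [
  ⟨117, [[0], [1], [2], [3], [4], [5]], [117, 116, 180, 155, 82, 178, 72, 179, 154, 81, 177, 112, 130, 278, 275, 200, 234, 240, 99, 128, 47, 273, 115, 276, 277, 129, 274, 233, 239, 146, 127, 76, 272, 172, 149, 201, 197, 316, 415, 413, 410, 188, 311, 358, 365, 152, 195, 79, 408, 176, 198, 267, 411, 412, 199, 196, 409, 357, 223, 364, 226, 228, 194, 121, 406, 263, 231, 317, 312, 308, 294, 471, 468, 614, 611, 202, 290, 464, 525, 536, 237, 305, 125, 594, 604, 271, 314, 309, 279, 396, 608, 610, 315, 310, 307, 609, 524, 346, 347, 534, 350, 352, 303, 184, 607, 602, 392, 355, 472, 465, 439, 438, 436, 470, 901,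 421, 318, 313, 433, 685, 765, 782, 776, 362, 451, 457, 192, 592, 871, 400, 775, 885, 404, 407, 416, 467, 462, 414, 581, 897, 899, 463, 895, 898, 763, 512, 513, 780, 516, 518, 461, 455, 286, 894, 889, 896, 883, 576, 578, 522, 688, 324, 474, 644, 643, 615, 689, 420, 282, 473, 469, 466, 642, 994, 1104, 1098, 1121, 1116, 1119, 955, 532, 535, 449, 662, 298, 670, 301, 304, 874, 781, 586, 938, 1232, 590, 593, 1115, 1111, 598, 600, 603, 613, 684, 612, 857, 1258, 1259, 1261, 1260, 682, 1254, 1256, 1257, 1225, 1102, 1097, 749, 750, 1122, 681, 674, 683, 668, 428, 430, 1253, 1247, 1255, 1248, 1241, 1249, 854, 847, 849, 853, 764, 761, 995, 323, 205, 690, 687, 619, 419, 686, 940, 1344, 1343, 1451, 1446, 1449, 1303, 1466, 1460, 779, 1462, 972, 654, 666, 660, 443, 931, 962,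 447, 450, 453, 456, 1114, 1234, 639, 1103, 1290, 958, 1222, 638, 868, 870, 1461, 1459, 1441, 880, 884, 992, 900, 1226, 1342, 1341, 1340, 1595, 1594, 1592, 990, 993, 1319, 1573, 1452, 1445, 1084, 1422, 989, 981, 991, 982, 976, 632, 634, 1338, 1318, 1465, 1588, 1583, 1589, 1584, 1352, 1215, 697, 1214, 618, 953, 954, 481, 321, 907, 908, 909, 695, 1014, 1012, 1630, 1013, 1639, 1698, 1101, 1700, 1315, 1311, 1702, 1287, 1120, 1267, 1321, 970, 971, 966, 960, 653, 1283, 658, 661, 669, 1339, 1307, 1305, 930, 1231, 1616, 1237, 904, 1266, 1747, 1320, 1351, 1615, 1699, 1073, 1330, 1331, 1327, 1328, 926, 1621, 1701, 1746, 1363, 1005, 906, 1003, 478, 905, 1282, 701, 702, 703, 1761, 1762, 1655, 1626, 1776, 1605, 1444, 1450, 1623, 1619, 1313, 1314, 961, 1617, 1757, 1004, 1756,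 1627, 1625, 1758, 1697, 698, 696, 1265, 1760, 1753, 1696, 1622, 1780, 1777, 1002, 1775, 1759, 1781], [(0, 0), (1, 0), (2, 0), (3, 0), (4, 0), (5, 0), (1, 1), (2, 1), (3, 1), (4, 1), (5, 1), (0, 2), (2, 2), (4, 2), (1, 3), (3, 3), (4, 3), (5, 3), (4, 4), (5, 4), (3, 5), (5, 5), (0, 7), (2, 7), (3, 7), (4, 7), (1, 8), (4, 8), (5, 8), (4, 9), (5, 9), (3, 10), (5, 10), (1, 11), (2, 12), (4, 12), (1, 13), (3, 13), (4, 13), (3, 14), (0, 15), (4, 15), (4, 16), (3, 17), (5, 17), (3, 19), (5, 19), (2, 21), (5, 21), (1, 23), (2, 23), (4, 23), (4, 24), (2, 25), (4, 25), (3, 26), (4, 27), (5, 27), (3, 28), (5, 28), (1, 29), (3, 30), (5, 30), (2, 32), (5, 32), (1, 33), (3, 35), (4, 35), (3, 36), (0, 37), (3, 37), (4, 37), (2, 38), (2, 40), (1, 41), (4, 41), (3, 42), (3, 43),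 (2, 44), (5, 44), (2, 46), (5, 46), (1, 48), (3, 48), (5, 48), (2, 50), (4, 50), (1, 51), (4, 51), (3, 52), (3, 53), (3, 54), (4, 54), (3, 55), (2, 56), (3, 57), (5, 57), (1, 58), (2, 59), (5, 59), (1, 60), (2, 62), (5, 62), (1, 64), (3, 64), (5, 64), (1, 65), (2, 67), (2, 69), (1, 70), (3, 70), (4, 70), (2, 71), (1, 73), (1, 74), (2, 75), (4, 75), (3, 76), (2, 77), (2, 78), (1, 79), (3, 79), (5, 79), (1, 81), (3, 81), (5, 81), (0, 83), (3, 83), (5, 83), (2, 84), (4, 84), (5, 84), (1, 85), (1, 86), (4, 86), (3, 87), (4, 88), (3, 89), (2, 90), (2, 91), (2, 94), (1, 95), (3, 95), (2, 96), (5, 96), (1, 97), (1, 99), (5, 99), (1, 100), (1, 102), (3, 102), (5, 102), (0, 104), (3, 104), (5, 104), (4, 105), (5, 105), (1, 106), (2, 107), (1, 108), (1, 109), (2, 110),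 (3, 110), (4, 110), (1, 113), (0, 114), (0, 115), (5, 115), (3, 116), (4, 116), (3, 117), (2, 118), (1, 119), (1, 120), (3, 120), (0, 121), (3, 121), (5, 121), (4, 122), (5, 122), (1, 123), (0, 124), (3, 124), (5, 124), (4, 125), (5, 125), (1, 126), (1, 127), (3, 127), (5, 127), (2, 128), (4, 128), (5, 128), (1, 129), (1, 130), (4, 130), (5, 130), (5, 131), (1, 132), (4, 134), (2, 136), (3, 137), (2, 138), (1, 139), (3, 139), (1, 140), (3, 140), (1, 141), (0, 142), (3, 142), (5, 142), (2, 143), (1, 144), (3, 144), (5, 144), (1, 145), (0, 147), (0, 150), (3, 150), (5, 150), (4, 151), (5, 151), (1, 152), (1, 153), (3, 153), (5, 153), (2, 154), (4, 154), (5, 154), (1, 155), (5, 156), (1, 157), (0, 158), (2, 158), (3, 159), (5, 160), (0, 161), (5, 161), (3, 162),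 (4, 162), (1, 167), (5, 167), (2, 171), (1, 172), (0, 173), (5, 173), (0, 174), (3, 174), (5, 174), (4, 175), (1, 176), (3, 176), (5, 176), (2, 177), (4, 177), (5, 179), (1, 182), (3, 182), (5, 182), (2, 183), (4, 183), (5, 183), (1, 184), (5, 185), (1, 186), (0, 188), (2, 188), (2, 189), (4, 189), (1, 191), (3, 191), (4, 191), (5, 191), (5, 192), (1, 193), (0, 195), (4, 195), (3, 196), (5, 196), (1, 198), (1, 201), (2, 202), (1, 203), (0, 204), (3, 204), (5, 204), (0, 206), (3, 206), (5, 206), (0, 208), (5, 208), (1, 209), (1, 212), (0, 213), (3, 213), (5, 214), (1, 217), (1, 218), (3, 218), (5, 218), (2, 219), (4, 219), (5, 221), (1, 222), (0, 224), (2, 224), (3, 224), (2, 225), (4, 225), (3, 227), (4, 227), (5, 228), (1, 229), (1, 231), (0, 232), (2, 232),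 (3, 234), (4, 235), (1, 237), (5, 237), (0, 241), (2, 241), (5, 241), (1, 243), (0, 244), (5, 244), (1, 245), (5, 245), (1, 247), (3, 247), (5, 247), (2, 248), (4, 248), (5, 248), (2, 251), (4, 252), (1, 253), (3, 254), (4, 254), (0, 257), (2, 257), (3, 257), (4, 258), (5, 258), (4, 260), (5, 261), (1, 262), (1, 264), (2, 266), (3, 270), (4, 271), (5, 271), (1, 274), (3, 277), (5, 278), (1, 282), (5, 283), (1, 287), (5, 287), (1, 294), (3, 294), (2, 295), (2, 297), (3, 298), (2, 299), (4, 299), (4, 301), (1, 303), (3, 306), (2, 307), (1, 308), (4, 310), (1, 312), (2, 313), (0, 314), (2, 314), (2, 315), (2, 317), (0, 319), (2, 319), (5, 319), (0, 327), (2, 327), (2, 329), (3, 329), (2, 330), (4, 330), (5, 330), (1, 331), (3, 332), (5, 332), (3, 340), (2, 342),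 (1, 346), (2, 350), (2, 354), (2, 360), (2, 361), (2, 364), (4, 364), (2, 369), (4, 369), (2, 373), (2, 375), (1, 377), (1, 386), (3, 386), (5, 386), (2, 392), (1, 401), (3, 401), (1, 404), (1, 408), (1, 409), (3, 410)]⟩,
  ⟨1234, [[1, 5, 1], [3, 2, 3], [1, 0, 3, 1], [1, 2, 3, 4, 3, 2, 1]], [1234, 1589, 481, 990, 971, 607, 1225, 1363, 478, 611, 896, 993, 1775, 1444, 578, 871, 129, 396, 1760, 1746, 685, 282, 392, 197, 1328, 1248, 1122, 1617, 1781, 1327, 1583, 1313, 603, 99, 324, 1445, 200, 180, 290, 433, 614, 989, 1623, 1762, 1267, 1605, 447, 632, 362, 1214, 79, 307, 311, 1630, 1452, 908, 857, 1700, 1616, 1776, 1753, 681, 1101, 981, 1639, 1592, 1084, 146, 72, 316, 1115, 1104, 76, 154, 451, 317, 581, 689, 436, 278, 1287, 455, 639, 1462, 1330, 782, 1261, 301, 298,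 404, 954, 1003, 1119, 593, 321, 658, 237, 121, 310, 972, 642, 524, 1320, 1627, 1340, 1756, 609, 1237, 1780, 970, 1451, 991, 1622, 1450, 1098, 906, 668, 346, 764, 223, 350, 314, 598, 674, 347, 304, 155, 608, 318, 469, 473, 199, 644, 931, 303, 127, 703, 1120, 535, 895, 1573, 192, 590, 430, 868, 115, 271, 966, 450, 1265, 408, 453, 176, 443, 428, 518, 413, 613, 358, 1342, 525, 1759, 1701, 1290, 1283, 1696, 1318, 1303, 686, 1758, 960, 420, 226, 512, 263, 474, 690, 695, 634, 992, 228, 81, 279, 466, 294, 438, 615, 592, 305, 240, 1004, 1466, 1341, 286, 600, 205, 400, 461, 456, 697, 275, 355, 513, 516, 534, 410, 231, 926, 638, 982, 750, 643, 177, 612, 414, 272, 1777, 660, 907, 1215, 610, 470, 904, 586, 940, 233, 112, 198, 267, 202, 776, 1222, 682, 683, 930, 847, 465,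 618, 853, 662, 1241, 669, 409, 239, 780, 274, 976, 761, 172, 884, 364, 687, 309, 602, 462, 1343, 1460, 1655, 276, 994, 1116, 277, 188, 234, 1307, 1352, 1282, 576, 619, 1461, 696, 421, 962, 775, 898, 412, 1747, 1232, 1311, 1231, 467, 463, 1253, 1702, 897, 1014, 1584, 116, 471, 82, 1615, 1249, 905, 1013, 201, 1422, 1319, 1625, 1260, 1005, 885, 1266, 1321, 894, 899, 702, 1254, 472, 1698, 883, 779, 1114, 1257, 995, 1247], [(0, 0), (1, 0), (2, 0), (3, 0), (1, 1), (2, 1), (3, 1), (0, 2), (2, 2), (3, 2), (1, 3), (3, 3), (1, 4), (0, 5), (2, 5), (3, 5), (1, 6), (3, 6), (1, 7), (2, 7), (2, 8), (3, 8), (1, 9), (3, 9), (1, 10), (2, 10), (3, 11), (1, 12), (0, 13), (2, 13), (3, 13), (2, 14), (3, 14), (1, 15), (3, 15), (1, 16), (2, 16), (0, 17), (2, 17), (3, 17), (1, 18), (2,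 18), (0, 19), (2, 19), (3, 19), (1, 21), (3, 21), (1, 22), (2, 22), (0, 23), (2, 23), (3, 23), (1, 24), (2, 24), (0, 25), (2, 25), (3, 25), (1, 26), (0, 28), (2, 28), (3, 28), (2, 29), (3, 29), (1, 30), (1, 31), (3, 32), (1, 33), (2, 33), (3, 34), (1, 35), (2, 35), (0, 36), (2, 36), (3, 36), (1, 37), (2, 38), (3, 38), (1, 39), (1, 40), (0, 41), (2, 41), (3, 41), (2, 43), (3, 43), (1, 44), (1, 45), (0, 46), (2, 46), (3, 46), (1, 47), (2, 47), (0, 48), (2, 48), (3, 48), (1, 49), (2, 50), (3, 50), (1, 51), (3, 51), (1, 52), (2, 52), (0, 53), (3, 53), (2, 55), (3, 55), (1, 56), (0, 58), (2, 59), (3, 59), (1, 60), (1, 61), (1, 62), (0, 64), (2, 64), (3, 64), (3, 65), (1, 66), (2, 66), (0, 67), (3, 67), (1, 69), (0, 70), (3, 70), (2, 72), (3, 72), (1, 73), (1, 76),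 (1, 77), (0, 78), (3, 78), (0, 79), (2, 79), (2, 80), (3, 80), (1, 81), (1, 83), (1, 84), (0, 85), (0, 86), (2, 86), (2, 87), (3, 87), (1, 88), (3, 88), (1, 89), (2, 89), (0, 90), (2, 90), (3, 90), (2, 92), (0, 95), (1, 96), (3, 96), (1, 97), (2, 97), (0, 98), (2, 98), (3, 98), (0, 100), (1, 101), (3, 102), (1, 103), (1, 105), (3, 106), (1, 109), (0, 111), (2, 111), (3, 111), (0, 112), (2, 113), (3, 113), (0, 117), (2, 117), (1, 120), (0, 121), (2, 121), (3, 121), (3, 122), (1, 123), (1, 124), (0, 126), (2, 126), (0, 127), (0, 128), (3, 129), (2, 131), (1, 133), (1, 134), (0, 135), (2, 136), (0, 137), (2, 139), (1, 141), (3, 141), (1, 142), (2, 142), (0, 143), (2, 143), (1, 144), (0, 145), (2, 145), (3, 145), (1, 146), (1, 150), (0, 152), (2, 152), (3, 152),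 (1, 153), (0, 154), (1, 155), (2, 156), (3, 156), (1, 157), (3, 157), (0, 160), (0, 165), (2, 166), (3, 166), (1, 170), (0, 174), (2, 175), (3, 175), (1, 178), (0, 179), (0, 180), (2, 180), (2, 181), (1, 185), (1, 186), (0, 187), (1, 190), (1, 192), (0, 193), (2, 193), (1, 194), (0, 195), (2, 195), (3, 195), (2, 197), (0, 199), (2, 199), (2, 200), (3, 200), (0, 203), (2, 205), (3, 205), (1, 206), (3, 206), (2, 207), (0, 210), (1, 211), (3, 211), (1, 212), (2, 212), (1, 218), (2, 219), (3, 219), (1, 221), (1, 222), (0, 223), (2, 225), (1, 227), (2, 229), (2, 233), (0, 235), (2, 235), (3, 235), (2, 236), (3, 236), (1, 238), (1, 239), (2, 240), (1, 243), (1, 245), (3, 245), (1, 246), (2, 246), (0, 247), (2, 247), (0, 251), (1, 252), (2, 253), (3, 253), (2, 255),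 (3, 255), (1, 257), (2, 258), (1, 261), (1, 263), (2, 265), (3, 265), (1, 266), (1, 268), (3, 271), (1, 272), (0, 274), (3, 274), (1, 275), (1, 277), (2, 278), (2, 281), (3, 281), (1, 283), (1, 284), (0, 286), (1, 291), (1, 294), (3, 296), (2, 297), (1, 301), (0, 303), (0, 304), (0, 307), (0, 310)]⟩,
  ⟨534, [[1, 0, 2, 1, 3, 4, 3, 2, 0, 1], [0, 2, 5, 1, 2, 3, 2, 0, 1, 5, 1, 2, 0], [0, 1, 0, 5, 1, 2, 3, 4, 1, 2, 3, 1, 2, 1]], [534, 1119, 981, 1777, 696, 683, 1696, 450, 660, 1237, 1122, 576, 316, 662, 462, 1450, 518, 412, 1214, 436, 1781, 642, 638, 1573, 513, 600, 1307, 263, 607, 188, 992, 410, 1759, 1266, 853, 897, 466, 1702, 428, 433, 643, 1287, 989, 614, 1290, 609, 994, 779, 1003, 197, 304, 1352, 346, 931, 237, 1116, 453, 697, 885, 1627, 271, 619, 81, 764, 200,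 908, 1698, 1639, 884, 311, 1098, 581, 776, 883, 750, 1615, 1363, 72, 991, 1462, 592, 409, 205, 471, 995, 962, 669, 463, 474, 525, 414, 593, 231, 112, 613, 1451, 1466, 154, 1101, 578, 966, 180, 618, 1265, 896, 524, 1625, 1605, 307, 223, 202, 1776, 898, 689, 1313, 1589, 1762, 99, 420, 1282, 146, 1321, 1114, 512, 234, 127, 1780, 990, 478, 1655, 472, 294, 451, 1115, 115, 868, 1460, 121, 421, 1341, 1104, 267, 1444, 782, 634, 894, 82, 895, 1013, 1311, 279, 535, 400, 1257, 1328, 1303, 226, 233, 465, 358], [(0, 0), (1, 0), (2, 0), (1, 1), (2, 1), (0, 2), (2, 2), (0, 3), (1, 3), (2, 3), (0, 4), (2, 4), (0, 5), (1, 5), (2, 5), (1, 6), (2, 6), (0, 7), (1, 7), (2, 7), (1, 8), (2, 8), (2, 9), (1, 10), (2, 10), (1, 11), (2, 11), (0, 12), (1, 12), (2, 12), (1, 13), (2, 13),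 (0, 14), (2, 14), (0, 15), (1, 15), (2, 15), (0, 16), (2, 16), (0, 17), (2, 17), (1, 18), (0, 19), (2, 19), (0, 20), (1, 20), (2, 20), (1, 22), (2, 22), (1, 23), (2, 23), (0, 24), (2, 24), (0, 25), (0, 26), (2, 26), (0, 27), (1, 27), (2, 27), (1, 28), (2, 28), (0, 29), (2, 29), (0, 30), (2, 30), (0, 31), (1, 32), (1, 33), (2, 34), (1, 35), (2, 35), (0, 36), (0, 37), (1, 37), (2, 37), (0, 39), (2, 39), (1, 40), (2, 40), (0, 41), (1, 41), (2, 41), (1, 43), (2, 43), (1, 44), (2, 44), (1, 45), (2, 45), (2, 46), (1, 47), (2, 47), (2, 49), (0, 50), (2, 50), (1, 51), (2, 51), (2, 52), (0, 53), (1, 53), (2, 53), (2, 55), (0, 56), (1, 56), (2, 56), (1, 57), (2, 57), (2, 59), (2, 61), (1, 62), (2, 64), (0, 65), (2, 68), (2, 69), (0, 70), (0, 71), (1, 71), (2, 71), (1,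 72), (1, 73), (2, 73), (1, 76), (2, 76), (0, 77), (1, 77), (2, 77), (0, 79), (1, 80), (2, 80), (2, 81), (0, 83), (2, 83), (2, 84), (1, 86), (1, 89), (2, 89), (2, 90), (0, 92), (2, 93), (0, 96), (1, 96), (1, 97), (2, 100), (0, 101), (0, 103), (1, 106), (0, 110), (2, 110), (2, 111), (0, 112), (1, 117), (2, 117), (0, 119), (0, 122), (0, 127), (1, 129), (0, 134), (2, 137), (1, 138), (2, 144)]⟩,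
  ⟨298, [[1, 2, 3, 2, 1, 0, 1, 3, 4, 5, 0, 1, 2, 3, 2, 0, 1, 5, 0, 1, 0], [2, 3, 2, 1, 4, 3, 2, 1, 0, 3, 5, 4, 2, 3, 1, 2, 3, 4, 1, 2, 3, 2]], [298, 1758, 602, 590, 906, 1084, 303, 1120, 199, 976, 310, 1318], [(0, 0), (1, 0), (0, 1), (1, 1), (0, 2), (1, 3), (0, 4), (0, 5), (1, 5), (0, 6), (0, 7)]⟩,
  ⟨513, [], [513], []⟩,
  ⟨908, [], [908], []⟩]

end CfsgLib.Suz.Out
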