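import Cfsg.Prelude.Def_Spor_Suz
import Cfsg.Agent.Lib.PresCert.Cox

/-!
The presented Suzuki group on numbered generators.
-/

set_option autoImplicit false

namespace CfsgLib.Suz

open Cfsg.Spor CfsgLib.PresCert

/-- The number of a generator. -/
def genIx : Suz.Gen → ℕ
  | .a => 0
  | .b => 1
  | .c => 2
  | .d => 3
  | .e => 4
  | .f => 5
  | .g => 6

/-- The presentation. -/
abbrev suzData : CoxData where
  Gen := Suz.Gen
  ng := 7
  dflt := .a
  at' := [.a, .b, .c, .d, .e, .f, .g]
  ix := genIx
  edges := Suz.edges
  extra := Suz.extra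

theorem suz_ok : suzData.Ok where
  at_ix x := by cases x <;> rfl
  ix_lt x := by cases x <;> decide
  ix_at := by decide +kernel
  node := by decide +kernel

/-- The generators by number. -/
abbrev suzGen : ℕ → Cfsg.Spor.Suz := suzData.gen

theorem suzGen_sq : ∀ g, g < 7 → suzGen g * suzGen g = 1 :=
  fun _ hg => CoxData.gen_sq suz_ok hg

theorem closure_all : genGrp ((List.range 7).map fun g => [g]) suzGen = ⊤ :=
  CoxData.closure_gens suz_ok

/-- Every homomorphism to a commutative group is trivial. -/
theorem hom_trivial {A : Type*} [CommGroup A] (f : Cfsg.Spor.Suz →* A) (z : Cfsg.Spor.Suz) :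
    f z = 1 := by
  have sq : ∀ x : Suz.Gen, f (PresentedGroup.of x) * f (PresentedGroup.of x) = 1 := fun x => by
    rw [← map_mul, CoxData.of_sq (P := suzData) suz_ok, map_one]
  have sq2 : ∀ x : Suz.Gen, f (PresentedGroup.of x) ^ 2 = 1 := fun x => by rw [pow_two, sq]
  have cox : ∀ x y : Suz.Gen, x ∈ coxNodes Suz.edges → y ∈ coxNodes Suz.edges →
      ∀ k, coxLabel Suz.edges x y = 2 * k + 1 →
        f (PresentedGroup.of x) = f (PresentedGroup.of y) := by
    intro x y hx hy k hl
    have h := congrArg f (CoxData.cox_one (P := suzData) hx hy)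
    rw [map_one, map_pow, map_mul, show coxLabel suzData.edges x y = 2 * k + 1 from hl, pow_succ,
      pow_mul, mul_pow, sq2, sq2, one_mul, one_pow, one_mul] at h
    calc f (PresentedGroup.of x)
        = f (PresentedGroup.of x) * (f (PresentedGroup.of y) * f (PresentedGroup.of y)) := by
          rw [sq, mul_one]
      _ = f (PresentedGroup.of y) := by rw [← mul_assoc, h, one_mul]
  have hab := cox .a .b (by decide) (by decide) 2 (by decide)
  have hbc := cox .b .c (by decide) (by decide) 1 (by decide)
  have hde := cox .d .e (by decide) (by decide) 1 (by decide)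
  have hbf := cox .b .f (by decide) (by decide) 1 (by decide)
  have hgb := cox .g .b (by decide) (by decide) 1 (by decide)
  have rel : ∀ r ∈ Suz.extra,
      f (PresentedGroup.mk (coxRelators suzData.edges ∪ {r | r ∈ suzData.extra}) r) = 1 :=
    fun r hr => by rw [CoxData.relList_one (P := suzData) (List.mem_append_right _ hr), map_one]
  have e1 := rel (Suz.a * ((Suz.f * Suz.g) ^ 2)⁻¹) (by simp [Suz.extra])
  have e2 := rel (((Suz.b * Suz.c * Suz.d * Suz.c * Suz.d) ^ 5 * Suz.e) ^ 3)
    (by simp [Suz.extra])
  simp only [map_mul, map_inv, map_pow, ← PresentedGroup.of.eq_def] at e1 e2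
  have ha : f (PresentedGroup.of .a) = 1 := by
    rw [mul_pow, sq2, sq2, one_mul, inv_one, mul_one] at e1
    exact e1
  rw [ha] at hab
  rw [← hab] at hbc hbf hgb
  have he : f (PresentedGroup.of .e) = 1 := by
    rw [← hab, ← hbc, one_mul, one_mul, mul_one, sq, one_pow, one_mul, pow_succ, sq2, one_mul] at e2
    exact e2
  have hall : ∀ x : Suz.Gen, f (PresentedGroup.of x) = 1 := by
    intro x
    cases x
    · exact ha
    · exact hab.symm
    · exact hbc.symm
    · exact hde.trans he
    · exact he
    · exact hbf.symm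
    · exact hgb
  have hf : f = 1 := PresentedGroup.ext fun x => by rw [hall x]; rfl
  rw [hf]
  rfl

theorem perfect : commutator Cfsg.Spor.Suz = ⊤ := by
  rw [← Abelianization.ker_of, eq_top_iff]
  intro z _
  exact hom_trivial Abelianization.of z

end CfsgLib.Suz
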