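import Cfsg.Agent.Lib.Suz.ThreeFiveBase
import Cfsg.Agent.Lib.MElevenUnique.Main
import Cfsg.Agent.Lib.Golay.Dodecad
import Cfsg.Prelude.Def_Transfer

/-!
The normaliser of the subgroup of order 243 of the presented Suzuki group induces the Mathieu group
of degree eleven on its eleven distinguished subgroups of order three.
-/

set_option autoImplicit false
set_option maxRecDepth 100000
set_option linter.style.haveILetI false

namespace CfsgLib.Suz.ThreeFive

open CfsgLib.PresCert

local notation "M" => Cfsg.Spor.Suz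

/-- The normaliser. -/
def NA : Subgroup M := Subgroup.normalizer (Asub : Set M)

theorem mem_normalizer_of {S : Subgroup M} {g : M} (h : ∀ a ∈ S, g * a * g⁻¹ ∈ S) :
    g ∈ Subgroup.normalizer (S : Set M) := by
  haveI := card_suz.1
  refine Subgroup.mem_normalizer_iff.2 fun a => ⟨h a, fun ha => ?_⟩
  let f : S → S := fun x => ⟨g * x.val * g⁻¹, h _ x.2⟩
  have hf : Function.Injective f := fun x y e =>
    Subtype.ext (mul_left_cancel (mul_right_cancel (congrArg Subtype.val e)))
  obtain ⟨x, hx⟩ := (Finite.injective_iff_surjective.1 hf) ⟨g * a * g⁻¹, ha⟩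
  have e : (x : M) = a := mul_left_cancel (mul_right_cancel (congrArg Subtype.val hx))
  exact e ▸ x.2

theorem conj_mem {m a : M} (hm : m ∈ NA) (ha : a ∈ Asub) : m * a * m⁻¹ ∈ Asub :=
  (Subgroup.mem_normalizer_iff.1 hm a).1 ha

theorem conj_pow_mem {m x y : M} (h : m * x * m⁻¹ ∈ Subgroup.zpowers y) {w : M}
    (hw : w ∈ Subgroup.zpowers x) : m * w * m⁻¹ ∈ Subgroup.zpowers y := by
  obtain ⟨k, rfl⟩ := Subgroup.mem_zpowers_iff.1 hw
  rw [← conj_zpow]
  exact Subgroup.zpow_mem _ h k

theorem exists_target (m : NA) (i : Fin 11) :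
    ∃ j : Fin 11, (m : M) * yEl i * (m : M)⁻¹ ∈ Subgroup.zpowers (yEl j) := by
  obtain ⟨p, hp⟩ := y_fix i.isLt
  have h : phi ((m : M) * yEl i * (m : M)⁻¹) (phi m p) = phi m p := by
    rw [← Equiv.Perm.mul_apply, ← map_mul, inv_mul_cancel_right, map_mul, Equiv.Perm.mul_apply, hp]
  obtain ⟨j, hj, hmem⟩ := fix_cases (conj_mem m.2 (yEl_mem i)) h
  exact ⟨⟨j, hj⟩, hmem⟩

/-- The image of a distinguished subgroup under conjugation. -/
noncomputable def target (m : NA) (i : Fin 11) : Fin 11 := (exists_target m i).choose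

theorem target_eq {m : NA} {i j : Fin 11}
    (h : (m : M) * yEl i * (m : M)⁻¹ ∈ Subgroup.zpowers (yEl j)) : target m i = j := by
  haveI := card_suz.1
  haveI : Fact (Nat.Prime 3) := ⟨Nat.prime_three⟩
  have hspec := (exists_target m i).choose_spec
  change (m : M) * yEl i * (m : M)⁻¹ ∈ Subgroup.zpowers (yEl (target m i)) at hspec
  set x := (m : M) * yEl i * (m : M)⁻¹
  have hx : x ≠ 1 := fun e => y_ne_one i.isLt (by
    have := mul_inv_eq_one.1 e
    exact mul_eq_left.1 this)
  have hle : ∀ k : Fin 11, x ∈ Subgroup.zpowers (yEl k) → Subgroup.zpowers x = Subgroup.zpowers (yEl k) :=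
    fun k hk => Subgroup.eq_of_le_of_card_ge (Subgroup.zpowers_le.2 hk) (by
      have h3 : Nat.card (Subgroup.zpowers x) ∣ 3 := by
        rw [Nat.card_zpowers]
        exact orderOf_dvd_of_pow_eq_one (A_cube (conj_mem m.2 (yEl_mem i)))
      rcases Nat.prime_three.eq_one_or_self_of_dvd _ h3 with e | e
      · exact absurd (Subgroup.zpowers_eq_bot.1 (Subgroup.card_eq_one.1 e)) hx
      · rw [e, Nat.card_zpowers, y_order k.isLt])
  refine Fin.ext (y_unique (target m i).isLt j.isLt ?_)
  rw [← hle j h, hle _ hspec]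
  exact Subgroup.mem_zpowers _

theorem target_spec (m : NA) (i : Fin 11) :
    (m : M) * yEl i * (m : M)⁻¹ ∈ Subgroup.zpowers (yEl (target m i)) :=
  (exists_target m i).choose_spec

theorem target_one (i : Fin 11) : target 1 i = i := target_eq (by simp)

theorem target_mul (m m' : NA) (i : Fin 11) : target (m * m') i = target m (target m' i) := by
  refine target_eq ?_
  have h := conj_pow_mem (target_spec m (target m' i)) (target_spec m' i)
  rwa [show ((m * m' : NA) : M) * yEl i * ((m * m' : NA) : M)⁻¹ =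
    (m : M) * ((m' : M) * yEl i * (m' : M)⁻¹) * (m : M)⁻¹ by
      rw [Subgroup.coe_mul]; group]

/-- The action on the eleven subgroups. -/
noncomputable def hom : NA →* Equiv.Perm (Fin 11) where
  toFun m :=
    { toFun := target m
      invFun := target m⁻¹
      left_inv := fun i => by rw [← target_mul, inv_mul_cancel, target_one]
      right_inv := fun i => by rw [← target_mul, mul_inv_cancel, target_one] }
  map_one' := Equiv.ext fun i => target_one i
  map_mul' m m' := Equiv.ext fun i => target_mul m m' i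

theorem hom_apply (m : NA) (i : Fin 11) : hom m i = target m i := rfl

theorem nWord_norm {k : ℕ} (hk : k < 6) : act suzGen (nWords.getD k []) ∈ NA := by
  refine mem_normalizer_of fun a ha => ?_
  have h := a_norm
  simp only [List.all_eq_true, List.mem_range] at h
  have hle : Asub ≤ Asub.comap (MulAut.conj (act suzGen (nWords.getD k []))).toMonoidHom := by
    rw [Asub, genGrp, Subgroup.closure_le, gens_eq]
    rintro _ ⟨i, rfl⟩
    have e := (eqS_iff (lt_append (lt_append (lt_rev (lt_n k)) (lt_aWord i)) (lt_n k))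
      (lt_expand lt_a _)).1 (h k hk i i.isLt)
    rw [conj_word (lt_n k)] at e
    simp only [SetLike.mem_coe, Subgroup.mem_comap, MulEquiv.coe_toMonoidHom, MulAut.conj_apply]
    rw [e]
    have := expand_mem ((conjA.getD k []).getD i.val [])
    rwa [Asub, genGrp, gens_eq] at this
  have h2 : a ∈ Asub.comap (MulAut.conj (act suzGen (nWords.getD k []))).toMonoidHom := hle ha
  exact h2

theorem hom_nWord {k : ℕ} (hk : k < 6) :
    ⇑(hom ⟨_, nWord_norm hk⟩) =
      (MElevenUnique.Tables.gens MElevenUnique.Tables.fs1).getD k id := by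
  funext i
  rw [hom_apply]
  refine target_eq ?_
  have h := y_norm
  simp only [List.all_eq_true, List.mem_range] at h
  have e := (eqS_iff (lt_append (lt_append (lt_rev (lt_n k)) (lt_yWord i)) (lt_n k))
    (lt_repWord (lt_yWord _) _)).1 (h k hk i i.isLt)
  rw [conj_word (lt_n k), act_repWord] at e
  have hall : ∀ k : Fin 6, ∀ i : Fin 11, (permY.getD k.val []).getD i.val 0 =
      ((MElevenUnique.Tables.gens MElevenUnique.Tables.fs1).getD k.val id i).val := by decide +kernel
  have hp := hall ⟨k, hk⟩ i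
  dsimp only at hp
  rw [hp] at e
  show act suzGen _ * yEl i * (act suzGen _)⁻¹ ∈ _
  rw [show yEl i = act suzGen (yWord i) from rfl, e]
  exact Subgroup.npow_mem_zpowers _ _

theorem standard_le : MElevenUnique.standard ≤ hom.range := by
  rw [MElevenUnique.standard, Subgroup.closure_le]
  intro π hπ
  obtain ⟨k, hk, e⟩ := List.getElem_of_mem hπ
  refine ⟨⟨_, nWord_norm hk⟩, DFunLike.coe_injective ?_⟩
  rw [hom_nWord hk, List.getD_eq_getElem _ _ hk, e]

theorem card_standard : Nat.card MElevenUnique.standard = 7920 ∧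
    Nonempty (MElevenUnique.standard ≃* Cfsg.Spor.M11) := by
  haveI := CfsgLib.Golay.M11_simple
  haveI := Fintype.ofFinite Cfsg.Spor.M11
  obtain ⟨ψ, hψ, hr⟩ := MElevenUnique.range_eq_standard (G := Cfsg.Spor.M11) CfsgLib.Golay.card_M11
  have e := (MonoidHom.ofInjective hψ).trans (MulEquiv.subgroupCongr hr)
  exact ⟨(Nat.card_congr e.toEquiv).symm.trans CfsgLib.Golay.card_M11, ⟨e.symm⟩⟩

theorem sG_eq : ∀ g : ℕ, g < 7 → g ≠ 4 → [g] ∈ sG := by decide

theorem hWord_mem (k : ℕ) : act suzGen (hWords.getD k []) ∈ genGrp sG suzGen := by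
  by_cases hk : k < hWords.length
  · have h := words_ok.2.1
    simp only [List.all_eq_true, Bool.and_eq_true, Nat.blt_eq, Bool.not_eq_true'] at h
    have hw := h _ (List.getElem_mem hk)
    rw [List.getD_eq_getElem _ _ hk]
    revert hw
    generalize hWords[k] = w
    induction w with
    | nil => intro _; rw [act_nil]; exact Subgroup.one_mem _
    | cons g w ih =>
      intro hw
      rw [act_cons]
      refine Subgroup.mul_mem _ (ih fun x hx => hw x (List.mem_cons_of_mem _ hx))
        (Subgroup.subset_closure ⟨[g], ?_, by rw [act_cons, act_nil, one_mul]⟩)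
      obtain ⟨h1, h2⟩ := hw g List.mem_cons_self
      exact sG_eq g h1 fun e => by simp [e] at h2
  · rw [List.getD_eq_default _ _ (Nat.le_of_not_lt hk), act_nil]
    exact Subgroup.one_mem _

theorem sigOf_spec {h : List ℕ} (hh : ∀ g ∈ h, g < tab.ng) (q : ℕ) :
    (sigOf h).testBit q = true ↔ ∃ a ∈ Asub,
      ((phi (act suzGen h * a * (act suzGen h)⁻¹) ⟨0, zero_lt⟩ : Fin tab.n) : ℕ) = q := by
  haveI := card_suz.1
  have hwr : tab.walk 0 h.reverse = ((phi (act suzGen h)⁻¹ ⟨0, zero_lt⟩ : Fin tab.n) : ℕ) :=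
    walk_reverse realised (fun g hg => suzGen_sq g (ng_eq ▸ hg)) hh ⟨0, zero_lt⟩
  set p := phi (act suzGen h)⁻¹ ⟨0, zero_lt⟩ with hp
  rw [sigOf, testBit_maskOf, hwr, List.mem_map]
  have hin : ∀ x ∈ orbOf p.val, x < tab.n := by
    intro x hx
    simp only [orbOf] at hx
    rcases hf : orbits.find? (fun o => o.2.pts.contains p.val) with _ | o
    · rw [hf] at hx; simp at hx
    · rw [hf] at hx
      have ho := List.mem_of_find?_eq_some hf
      have hok := orbit_ok ho
      simp only [orbitOk, levelOk, Bool.and_eq_true, List.all_eq_true, Nat.blt_eq] at hok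
      obtain ⟨⟨⟨⟨⟨⟨-, hlt⟩, -⟩, -⟩, -⟩, -⟩, -⟩ := hok
      exact hlt x hx
  constructor
  · rintro ⟨x, hx, rfl⟩
    obtain ⟨a, ha, e⟩ := (orbOf_spec p ⟨x, hin x hx⟩).1 hx
    refine ⟨a, ha, ?_⟩
    rw [map_mul, map_mul, Equiv.Perm.mul_apply, Equiv.Perm.mul_apply, ← hp, e, realised.act_apply hh]
  · rintro ⟨a, ha, rfl⟩
    refine ⟨(phi a p).val, (orbOf_spec p (phi a p)).2 ⟨a, ha, rfl⟩, ?_⟩
    rw [← realised.act_apply hh, map_mul, map_mul, Equiv.Perm.mul_apply, Equiv.Perm.mul_apply]

theorem card_H_inf : Nat.card ↥(genGrp sG suzGen ⊓ NA) ≤ 174960 := by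
  haveI := card_suz.1
  have hlen : hWords.length = 112 := words_ok.2.2.2.2.2.2.1
  let h : Fin 112 → M := fun k => act suzGen (hWords.getD k.val [])
  let f : Fin 112 × ↥(genGrp sG suzGen ⊓ NA) → genGrp sG suzGen := fun p =>
    ⟨h p.1 * p.2.val, Subgroup.mul_mem _ (hWord_mem _) (Subgroup.mem_inf.1 p.2.2).1⟩
  have hlt : ∀ k : ℕ, ∀ g ∈ hWords.getD k [], g < tab.ng := fun k => by
    by_cases hk : k < hWords.length
    · rw [List.getD_eq_getElem _ _ hk]
      exact wordsLt_spec words_ok.1 _ (List.mem_append_right _ (List.getElem_mem hk))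
    · rw [List.getD_eq_default _ _ (Nat.le_of_not_lt hk)]
      exact fun g hg => absurd hg List.not_mem_nil
  have hf : Function.Injective f := by
    rintro ⟨k, m⟩ ⟨k', m'⟩ e
    have e' : h k * m.val = h k' * m'.val := congrArg Subtype.val e
    have hm : (h k')⁻¹ * h k ∈ NA := by
      have e2 : (h k')⁻¹ * h k = m'.val * m.val⁻¹ := by
        rw [eq_mul_inv_iff_mul_eq, mul_assoc, e', inv_mul_cancel_left]
      rw [e2]
      exact Subgroup.mul_mem _ (Subgroup.mem_inf.1 m'.2).2 (Subgroup.inv_mem _ (Subgroup.mem_inf.1 m.2).2)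
    have sub : ∀ u u' : M, u'⁻¹ * u ∈ NA → ∀ q : ℕ,
        (∃ a ∈ Asub, ((phi (u * a * u⁻¹) ⟨0, zero_lt⟩ : Fin tab.n) : ℕ) = q) →
        ∃ a ∈ Asub, ((phi (u' * a * u'⁻¹) ⟨0, zero_lt⟩ : Fin tab.n) : ℕ) = q := by
      rintro u u' hu q ⟨a, ha, e⟩
      refine ⟨u'⁻¹ * u * a * (u'⁻¹ * u)⁻¹, conj_mem hu ha, ?_⟩
      rw [← e]; congr 3; group
    have hm' : (h k)⁻¹ * h k' ∈ NA := by
      have := Subgroup.inv_mem _ hm
      rwa [mul_inv_rev, inv_inv] at this
    have hsig : sigOf (hWords.getD k.val []) = sigOf (hWords.getD k'.val []) := by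
      refine Nat.eq_of_testBit_eq fun q => Bool.eq_iff_iff.2 ?_
      rw [sigOf_spec (hlt _), sigOf_spec (hlt _)]
      exact ⟨sub _ _ hm q, sub _ _ hm' q⟩
    have hkk : k = k' := by
      have hl : hSigs.length = 112 := by rw [← sigs_eq, List.length_map, hlen]
      have g : ∀ j : Fin 112, hSigs.getD j.val 0 = sigOf (hWords.getD j.val []) := fun j => by
        rw [← sigs_eq, List.getD_eq_getElem _ _ (by rw [List.length_map, hlen]; exact j.isLt),
          List.getElem_map, List.getD_eq_getElem _ _ (hlen.symm ▸ j.isLt)]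
      have e3 : hSigs.getD k.val 0 = hSigs.getD k'.val 0 := by rw [g, g, hsig]
      rw [List.getD_eq_getElem _ _ (hl.symm ▸ k.isLt), List.getD_eq_getElem _ _ (hl.symm ▸ k'.isLt)] at e3
      exact Fin.ext ((sigs_nodup.getElem_inj_iff).1 e3)
    subst hkk
    rw [show m = m' from Subtype.ext (mul_left_cancel e')]
  have h1 := Nat.card_le_card_of_injective f hf
  rw [Nat.card_prod, Nat.card_fin, six_card] at h1
  omega

/-- The subgroup: elementary abelian, self-centralising, with normaliser quotient the Mathieu group. -/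
theorem main (hN : Subgroup.normalizer (Subgroup.zpowers (act suzGen (repWord 5 [3, 2, 3, 2, 1])) : Set M) ≤
      genGrp sG suzGen) :
    Cfsg.IsElementaryAbelian 3 Asub ∧ Nat.card Asub = 3 ^ 5 ∧
      Subgroup.centralizer (Asub : Set M) = Asub ∧
      ∃ _ : (Asub.subgroupOf (Subgroup.normalizer (Asub : Set M))).Normal,
        Cfsg.Spor.IsoM11 (↥(Subgroup.normalizer (Asub : Set M)) ⧸
          Asub.subgroupOf (Subgroup.normalizer (Asub : Set M))) := by
  haveI := card_suz.1
  have hy : act suzGen (repWord 5 [3, 2, 3, 2, 1]) = yEl yIx := by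
    rw [yEl, words_ok.2.2.2.2.2.2.2.2]
  rw [hy] at hN
  let i0 : Fin 11 := ⟨yIx, words_ok.2.2.2.2.2.2.2.1⟩
  -- the stabiliser of the first distinguished subgroup
  letI : MulAction NA (Fin 11) := MulAction.compHom _ hom
  have hstab : Nat.card (MulAction.stabilizer NA i0) ≤ 174960 := by
    refine le_trans (Nat.card_le_card_of_injective
      (fun m => (⟨(m.val : M), Subgroup.mem_inf.2 ⟨hN (mem_normalizer_of fun w hw => ?_), m.val.2⟩⟩ :
        ↥(genGrp sG suzGen ⊓ NA))) fun a b e => ?_) card_H_inf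
    · have ht : target m.val i0 = i0 := m.2
      have h := target_spec m.val i0
      rw [ht] at h
      exact conj_pow_mem h hw
    · exact Subtype.ext (Subtype.ext (congrArg (fun q : ↥(genGrp sG suzGen ⊓ NA) => q.val) e))
  have hcard : Nat.card NA ≤ 1924560 := by
    have h2 := Nat.card_congr (MulAction.orbitProdStabilizerEquivGroup NA i0)
    rw [Nat.card_prod] at h2
    rw [← h2]
    refine le_trans (Nat.mul_le_mul ?_ hstab) (le_refl (11 * 174960))
    exact (Nat.card_le_card_of_injective _ Subtype.val_injective).trans (by rw [Nat.card_fin])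
  -- kernel and image
  have hker : Asub.subgroupOf NA ≤ hom.ker := by
    intro m hm
    rw [MonoidHom.mem_ker]
    refine Equiv.ext fun i => target_eq ?_
    have hc : (m : M) * yEl i = yEl i * m := A_comm (Subgroup.mem_subgroupOf.1 hm) (yEl_mem i)
    rw [Equiv.Perm.one_apply, hc, mul_inv_cancel_right]
    exact Subgroup.mem_zpowers _
  have hAN : Asub ≤ NA := fun a ha => mem_normalizer_of fun x hx =>
    Subgroup.mul_mem _ (Subgroup.mul_mem _ ha hx) (Subgroup.inv_mem _ ha)
  have hA' : Nat.card (Asub.subgroupOf NA) = 243 := by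
    rw [Nat.card_congr (Subgroup.subgroupOfEquivOfLe hAN).toEquiv, card_A]
  have hprod : Nat.card hom.range * Nat.card hom.ker = Nat.card NA := by
    rw [← Subgroup.index_ker, mul_comm, Subgroup.card_mul_index]
  have hk : 243 ≤ Nat.card hom.ker :=
    hA' ▸ Nat.card_le_card_of_injective _ (Subgroup.inclusion_injective hker)
  have hr : 7920 ≤ Nat.card hom.range :=
    card_standard.1 ▸ Nat.card_le_card_of_injective _ (Subgroup.inclusion_injective standard_le)
  have hkeq : hom.ker = Asub.subgroupOf NA := by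
    refine (Subgroup.eq_of_le_of_card_ge hker ?_).symm
    rw [hA']
    nlinarith
  have hreq : hom.range = MElevenUnique.standard := by
    refine (Subgroup.eq_of_le_of_card_ge standard_le ?_).symm
    rw [card_standard.1]
    nlinarith
  haveI hnorm : (Asub.subgroupOf NA).Normal := hkeq ▸ hom.normal_ker
  refine ⟨⟨⟨⟨fun a b => Subtype.ext (A_comm a.2 b.2)⟩⟩, fun a ha => A_cube ha⟩, by rw [card_A]; norm_num,
    le_antisymm (fun c hc => ?_) (fun a ha => Subgroup.mem_centralizer_iff.2 fun b hb => A_comm hb ha),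
    hnorm, ?_⟩
  · have hc' : ∀ a ∈ Asub, c * a = a * c := fun a ha => (Subgroup.mem_centralizer_iff.1 hc a ha).symm
    have hcN : c ∈ NA := mem_normalizer_of fun a ha => by rwa [hc' a ha, mul_inv_cancel_right]
    have hm : (⟨c, hcN⟩ : NA) ∈ hom.ker := by
      rw [MonoidHom.mem_ker]
      refine Equiv.ext fun i => target_eq ?_
      show c * yEl i * c⁻¹ ∈ _
      rw [Equiv.Perm.one_apply, hc' _ (yEl_mem i), mul_inv_cancel_right]
      exact Subgroup.mem_zpowers _
    rw [hkeq] at hm
    exact Subgroup.mem_subgroupOf.1 hm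
  · obtain ⟨e⟩ := card_standard.2
    exact ⟨((QuotientGroup.quotientMulEquivOfEq hkeq.symm).trans
      (QuotientGroup.quotientKerEquivRange hom)).trans ((MulEquiv.subgroupCongr hreq).trans e)⟩

end CfsgLib.Suz.ThreeFive
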