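import Cfsg.Agent.Lib.Suz.ThreeFiveCheck
import Cfsg.Agent.Lib.Suz.CentLower
import Cfsg.Agent.Lib.Suz.Sub

/-!
The subgroup of order 243 of the presented Suzuki group: order, orbits and fixed points.
-/

set_option autoImplicit false
set_option maxRecDepth 100000
set_option linter.style.haveILetI false

namespace CfsgLib.Suz.ThreeFive

open CfsgLib.PresCert

local notation "M" => Cfsg.Spor.Suz

/-- The subgroup. -/
def Asub : Subgroup M := genGrp aWords suzGen

/-- A distinguished element. -/
def yEl (i : ℕ) : M := act suzGen (yWord i)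

theorem ng_eq : tab.ng = 7 := rfl

theorem lt_a : ∀ w ∈ aWords, ∀ g ∈ w, g < tab.ng := fun w hw =>
  wordsLt_spec words_ok.1 w (List.mem_append_left _ (List.mem_append_left _ hw))

theorem lt_aWord (k : ℕ) : ∀ g ∈ aWord k, g < tab.ng := by
  by_cases hk : k < aWords.length
  · rw [aWord, List.getD_eq_getElem _ _ hk]
    exact lt_a _ (List.getElem_mem hk)
  · rw [aWord, List.getD_eq_default _ _ (Nat.le_of_not_lt hk)]
    exact fun g hg => absurd hg List.not_mem_nil

theorem lt_n (k : ℕ) : ∀ g ∈ nWords.getD k [], g < tab.ng := by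
  by_cases hk : k < nWords.length
  · rw [List.getD_eq_getElem _ _ hk]
    exact wordsLt_spec words_ok.1 _ (List.mem_append_left _ (List.mem_append_right _ (List.getElem_mem hk)))
  · rw [List.getD_eq_default _ _ (Nat.le_of_not_lt hk)]
    exact fun g hg => absurd hg List.not_mem_nil

theorem lt_yWord (i : ℕ) : ∀ g ∈ yWord i, g < tab.ng := lt_expand lt_a _

theorem lt_rev {w : List ℕ} (h : ∀ g ∈ w, g < tab.ng) : ∀ g ∈ w.reverse, g < tab.ng :=
  fun g hg => h g (List.mem_reverse.1 hg)

theorem eqS_iff {p q : List ℕ} (hp : ∀ g ∈ p, g < tab.ng) (hq : ∀ g ∈ q, g < tab.ng) :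
    eqS p q = true ↔ act suzGen p = act suzGen q := by
  haveI := card_suz.1
  refine ⟨fun h => eq_of_eqBase realised base_trivial hp hq h, fun h => eqBase_of_eq realised ?_ hp hq h⟩
  intro i hi
  have hall : (0 :: levelsS.map Level.base).all (fun x => Nat.blt x tab.n) = true := by decide +kernel
  simp only [List.all_eq_true, Nat.blt_eq] at hall
  exact hall i hi

theorem conj_word {p g : List ℕ} (hg : ∀ x ∈ g, x < tab.ng) :
    act suzGen (g.reverse ++ p ++ g) = act suzGen g * act suzGen p * (act suzGen g)⁻¹ := by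
  rw [act_append, act_append, act_reverse (fun x hx => suzGen_sq x (ng_eq ▸ hx)) hg, mul_assoc]

theorem aEl_mem (k : ℕ) : act suzGen (aWord k) ∈ Asub := by
  by_cases hk : k < aWords.length
  · rw [aWord, List.getD_eq_getElem _ _ hk]
    exact Subgroup.subset_closure ⟨_, List.getElem_mem hk, rfl⟩
  · rw [aWord, List.getD_eq_default _ _ (Nat.le_of_not_lt hk), act_nil]
    exact Subgroup.one_mem _

theorem expand_mem (p : List ℕ) : act suzGen (expand aWords p) ∈ Asub := by
  rw [act_expand]
  exact act_mem_of aEl_mem p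

theorem yEl_mem (i : ℕ) : yEl i ∈ Asub := expand_mem _

theorem gens_eq : {m : M | ∃ w ∈ aWords, act suzGen w = m} =
    Set.range fun k : Fin 5 => act suzGen (aWord k) := by
  have hl : aWords.length = 5 := words_ok.2.2.2.1
  ext m
  constructor
  · rintro ⟨w, hw, rfl⟩
    obtain ⟨k, hk, rfl⟩ := List.getElem_of_mem hw
    exact ⟨⟨k, hl ▸ hk⟩, congrArg (act suzGen) (List.getD_eq_getElem _ _ hk)⟩
  · rintro ⟨k, rfl⟩
    refine ⟨aWord k, ?_, rfl⟩
    rw [aWord, List.getD_eq_getElem _ _ (hl.symm ▸ k.isLt)]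
    exact List.getElem_mem _

theorem a_cube (k : Fin 5) : act suzGen (aWord k) ^ 3 = 1 := by
  have h := a_rels
  simp only [List.all_eq_true, List.mem_range, Bool.and_eq_true] at h
  have e := (eqS_iff (lt_repWord (lt_aWord k) 3) (fun g hg => absurd hg List.not_mem_nil)).1 (h k k.isLt).1
  rwa [act_repWord, act_nil] at e

theorem a_comm (i j : Fin 5) :
    act suzGen (aWord i) * act suzGen (aWord j) = act suzGen (aWord j) * act suzGen (aWord i) := by
  have h := a_rels
  simp only [List.all_eq_true, List.mem_range, Bool.and_eq_true, Bool.or_eq_true, Nat.ble_eq] at h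
  have key : ∀ a b : Fin 5, a.val < b.val →
      act suzGen (aWord a) * act suzGen (aWord b) = act suzGen (aWord b) * act suzGen (aWord a) := by
    intro a b hab
    have e := (eqS_iff (lt_append (lt_aWord a) (lt_aWord b)) (lt_append (lt_aWord b) (lt_aWord a))).1
      (((h a a.isLt).2 b b.isLt).resolve_left (by omega))
    rw [act_append, act_append] at e
    exact e.symm
  rcases lt_trichotomy i.val j.val with h' | h' | h'
  · exact key i j h'
  · rw [Fin.ext h']
  · exact (key j i h').symm

theorem A_comm {a b : M} (ha : a ∈ Asub) (hb : b ∈ Asub) : a * b = b * a := by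
  have h : Asub ≤ Subgroup.centralizer (Asub : Set M) := by
    rw [Asub, genGrp, gens_eq, Subgroup.closure_le]
    intro x hx
    obtain ⟨i, rfl⟩ := hx
    rw [SetLike.mem_coe, Subgroup.centralizer_closure, Subgroup.mem_centralizer_iff]
    rintro _ ⟨j, rfl⟩
    exact a_comm j i
  exact (Subgroup.mem_centralizer_iff.1 (h ha) b hb).symm

theorem A_cube {a : M} (ha : a ∈ Asub) : a ^ 3 = 1 := by
  rw [Asub, genGrp, gens_eq] at ha
  induction ha using Subgroup.closure_induction with
  | mem x hx => obtain ⟨k, rfl⟩ := hx; exact a_cube k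
  | one => exact one_pow _
  | mul x y hx hy ihx ihy =>
    rw [← gens_eq] at hx hy
    rw [(show Commute x y from A_comm hx hy).mul_pow, ihx, ihy, one_mul]
  | inv x _ ih => rw [inv_pow, ih, inv_one]

theorem card_zpowers_le {a : M} (h : a ^ 3 = 1) : Nat.card (Subgroup.zpowers a) ≤ 3 := by
  rw [Nat.card_zpowers]
  exact orderOf_le_of_pow_eq_one (by norm_num) h

theorem card_A_le : Nat.card Asub ≤ 243 := by
  haveI := card_suz.1
  have key : ∀ k ≤ 5, Nat.card ↥(Subgroup.closure
      ((fun i : Fin 5 => act suzGen (aWord i)) '' {i | i.val < k})) ≤ 3 ^ k := by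
    intro k
    induction k with
    | zero => simp
    | succ k ih =>
      intro hk
      set S := Subgroup.closure ((fun i : Fin 5 => act suzGen (aWord i)) '' {i | i.val < k}) with hS
      set a := act suzGen (aWord k) with ha
      have hSA : S ≤ Asub := (Subgroup.closure_le _).2 fun x ⟨i, _, e⟩ => e ▸ aEl_mem i
      let F := MonoidHom.noncommCoprod S.subtype (Subgroup.zpowers a).subtype fun s t => by
        obtain ⟨m, hm⟩ := Subgroup.mem_zpowers_iff.1 t.2
        show Commute (s : M) (t : M)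
        rw [← hm]
        exact Commute.zpow_right (A_comm (hSA s.2) (aEl_mem k)) m
      have hle : Subgroup.closure ((fun i : Fin 5 => act suzGen (aWord i)) '' {i | i.val < k + 1}) ≤ F.range := by
        rw [MonoidHom.noncommCoprod_range, Subgroup.range_subtype, Subgroup.range_subtype,
          Subgroup.closure_le]
        rintro _ ⟨i, hi, rfl⟩
        rcases Nat.lt_or_ge i.val k with h | h
        · exact Subgroup.mem_sup_left (Subgroup.subset_closure ⟨i, h, rfl⟩)
        · have : i.val = k := by have : i.val < k + 1 := hi; omega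
          refine Subgroup.mem_sup_right ?_
          show act suzGen (aWord i.val) ∈ _
          rw [this]
          exact Subgroup.mem_zpowers _
      refine le_trans (Nat.card_le_card_of_injective _ (Subgroup.inclusion_injective hle)) ?_
      refine le_trans (Nat.card_le_card_of_surjective F.rangeRestrict F.rangeRestrict_surjective) ?_
      rw [Nat.card_prod, pow_succ]
      exact Nat.mul_le_mul (ih (by omega)) (card_zpowers_le (A_cube (aEl_mem k)))
  have h := key 5 le_rfl
  rwa [show (fun i : Fin 5 => act suzGen (aWord i)) '' {i | i.val < 5} =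
    {m : M | ∃ w ∈ aWords, act suzGen w = m} by
      rw [gens_eq, ← Set.image_univ]; congr 1; ext i; simp] at h

theorem card_A : Nat.card Asub = 243 := by
  haveI := card_suz.1
  refine le_antisymm card_A_le ?_
  obtain ⟨h1, h2, h3⟩ := levelsA_ok
  have h := card_lower_sub realised (S := Asub) h1 fun l hl w hw => by
    simp only [List.all_eq_true, Bool.or_eq_true, List.contains_iff_mem, List.any_eq_true,
      decide_eq_true_eq] at h3
    rcases h3 l hl w hw with hw' | ⟨i, -, rfl⟩
    · exact Subgroup.subset_closure ⟨w, hw', rfl⟩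
    · exact yEl_mem i
  rw [h2] at h
  exact h.trans (Nat.card_le_card_of_injective _ (Subgroup.inclusion_injective inf_le_left))

theorem y_ne_one {i : ℕ} (hi : i < 11) : yEl i ≠ 1 := by
  have h := y_distinct
  simp only [List.all_eq_true, List.mem_range, Bool.and_eq_true] at h
  intro e
  have := (eqS_iff (lt_yWord i) (fun g hg => absurd hg List.not_mem_nil)).2 (by rw [act_nil]; exact e)
  have hh := (h i hi).1
  rw [this] at hh
  simp at hh

theorem y_order {i : ℕ} (hi : i < 11) : orderOf (yEl i) = 3 := by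
  haveI : Fact (Nat.Prime 3) := ⟨Nat.prime_three⟩
  exact orderOf_eq_prime (A_cube (yEl_mem i)) (y_ne_one hi)

theorem y_unique {i j : ℕ} (hi : i < 11) (hj : j < 11) (h : yEl i ∈ Subgroup.zpowers (yEl j)) : i = j := by
  classical
  haveI := card_suz.1
  by_contra hij
  have hd := y_distinct
  simp only [List.all_eq_true, List.mem_range, Bool.and_eq_true, Bool.or_eq_true, Nat.beq_eq,
    Bool.not_eq_true'] at hd
  obtain ⟨e1, e2⟩ := ((hd i hi).2 j hj).resolve_left hij
  obtain ⟨m, hm, e⟩ := Finset.mem_image.1 (IsOfFinOrder.mem_zpowers_iff_mem_range_orderOf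
    (isOfFinOrder_of_finite (yEl j)) |>.1 h)
  rw [Finset.mem_range, y_order hj] at hm
  interval_cases m
  · exact y_ne_one hi (by simpa using e.symm)
  · have := (eqS_iff (lt_yWord i) (lt_yWord j)).2 (by simpa [yEl] using e.symm)
    rw [this] at e1; simp at e1
  · have := (eqS_iff (lt_yWord i) (lt_repWord (lt_yWord j) 2)).2
      (by rw [act_repWord]; exact e.symm)
    rw [this] at e2; simp at e2

theorem orbit_ok {o : ℕ × Level} (ho : o ∈ orbits) : orbitOk o = true := by
  have hl : orbits = orbits.take 6 ++ ((orbits.drop 6).take 6 ++ ((orbits.drop 12).take 5 ++ orbits.drop 17)) := by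
    conv_lhs => rw [← List.take_append_drop 6 orbits, ← List.take_append_drop 6 (orbits.drop 6),
      List.drop_drop, ← List.take_append_drop 5 (orbits.drop (6 + 6)), List.drop_drop]
  rw [hl] at ho
  simp only [List.mem_append] at ho
  have hh : ∀ {l : List (ℕ × Level)}, l.all orbitOk = true → o ∈ l → orbitOk o = true :=
    fun h hm => List.all_eq_true.1 h o hm
  rcases ho with h | h | h | h
  exacts [hh orbits_ok0 h, hh orbits_ok1 h, hh orbits_ok2 h, hh orbits_ok3 h]

/-- An orbit of the subgroup: the listed points, and the stabiliser of the first one. -/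
theorem orbit_spec {j : ℕ} {l : Level} (ho : (j, l) ∈ orbits) (hb : l.base < tab.n) :
    j < 11 ∧ tab.walk l.base (yWord j) = l.base ∧
      (∀ p ∈ l.pts, ∃ t ∈ Asub, ((phi t ⟨l.base, hb⟩ : Fin tab.n) : ℕ) = p) ∧
      (∀ a ∈ Asub, ((phi a ⟨l.base, hb⟩ : Fin tab.n) : ℕ) ∈ l.pts) ∧
      ∀ a ∈ Asub, phi a ⟨l.base, hb⟩ = ⟨l.base, hb⟩ → a ∈ Subgroup.zpowers (yEl j) := by
  haveI := card_suz.1
  have hok := orbit_ok ho
  simp only [orbitOk, Bool.and_eq_true, decide_eq_true_eq, Nat.beq_eq, Nat.blt_eq] at hok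
  obtain ⟨⟨⟨⟨hl, hgens⟩, hlen⟩, hj⟩, hfix⟩ := hok
  have hspec := level_spec realised hl
  have hwA : ∀ fu k, act suzGen (l.word fu k) ∈ Asub := by
    intro fu
    induction fu with
    | zero => intro k; simp [Level.word, act_nil]
    | succ fu ih' =>
      intro k
      simp only [Level.word]
      split_ifs
      · simp [act_nil]
      · rw [act_append, hgens]
        exact Subgroup.mul_mem _ (aEl_mem _) (ih' _)
  simp only [levelOk, Bool.and_eq_true, List.all_eq_true, Nat.blt_eq, decide_eq_true_eq] at hl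
  obtain ⟨-, hnd'⟩ := hl
  have hnd := (nodupB_spec hnd').1
  set b : Fin tab.n := ⟨l.base, hb⟩ with hbdef
  let t : Fin l.pts.length → M := fun k => act suzGen (l.word (k.val + 1) k.val)
  have ht : ∀ k : Fin l.pts.length, ((phi (t k) b : Fin tab.n) : ℕ) = l.pts[k.val] := fun k => by
    obtain ⟨w1, -, w3⟩ := hspec k.val k.isLt (k.val + 1) (Nat.lt_succ_self _)
    show ((phi (act suzGen _) b : Fin tab.n) : ℕ) = _
    rw [realised.act_apply w1, w3, List.getD_eq_getElem _ _ k.isLt]
  have hyb : phi (yEl j) b = b := Fin.ext ((realised.act_apply (lt_yWord j) b).trans hfix)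
  have hzb : ∀ x ∈ Subgroup.zpowers (yEl j), phi x b = b := by
    intro x hx
    have : Subgroup.zpowers (yEl j) ≤ fixSub phi [l.base] := Subgroup.zpowers_le.2 fun i hi => by
      rw [show i = b from Fin.ext (List.mem_singleton.1 hi)]; exact hyb
    exact this hx b (List.mem_singleton_self _)
  let f : Fin l.pts.length × Subgroup.zpowers (yEl j) → Asub := fun p =>
    ⟨t p.1 * p.2.val, Subgroup.mul_mem _ (hwA _ _) (Subgroup.zpowers_le.2 (yEl_mem j) p.2.2)⟩
  have hf : Function.Injective f := by
    rintro ⟨a, m⟩ ⟨c, m'⟩ e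
    have e' : t a * m.val = t c * m'.val := congrArg Subtype.val e
    have e1 := congrArg (fun q => ((phi q b : Fin tab.n) : ℕ)) e'
    simp only [map_mul, Equiv.Perm.mul_apply, hzb _ m.2, hzb _ m'.2, ht] at e1
    have hac : a = c := Fin.ext ((hnd.getElem_inj_iff).1 e1)
    subst hac
    rw [show m = m' from Subtype.ext (mul_left_cancel e')]
  have hsurj : Function.Surjective f := (hf.bijective_of_nat_card_le (by
    rw [Nat.card_prod, Nat.card_fin, hlen, Nat.card_zpowers, y_order hj, card_A])).2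
  have hdec : ∀ a ∈ Asub, ∃ (k : Fin l.pts.length) (x : M), x ∈ Subgroup.zpowers (yEl j) ∧ a = t k * x := by
    intro a ha
    obtain ⟨⟨k, x⟩, e⟩ := hsurj ⟨a, ha⟩
    exact ⟨k, x.val, x.2, (congrArg Subtype.val e).symm⟩
  refine ⟨hj, hfix, fun p hp => ?_, fun a ha => ?_, fun a ha hab => ?_⟩
  · obtain ⟨k, hk, rfl⟩ := List.getElem_of_mem hp
    exact ⟨_, hwA _ _, ht ⟨k, hk⟩⟩
  · obtain ⟨k, x, hx, rfl⟩ := hdec a ha
    rw [map_mul, Equiv.Perm.mul_apply, hzb x hx, ht]
    exact List.getElem_mem _
  · obtain ⟨k, x, hx, rfl⟩ := hdec a ha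
    rw [map_mul, Equiv.Perm.mul_apply, hzb x hx] at hab
    have h0 : t k = t ⟨0, by omega⟩ := by
      have e0 : l.pts[k.val] = l.pts[(⟨0, by omega⟩ : Fin l.pts.length).val] := by
        rw [← ht, ← ht, hab]
        show _ = ((phi (act suzGen (l.word 1 0)) b : Fin tab.n) : ℕ)
        rw [show l.word 1 0 = [] by simp [Level.word], act_nil, map_one, Equiv.Perm.one_apply]
      rw [show k = ⟨0, by omega⟩ from Fin.ext ((hnd.getElem_inj_iff).1 e0)]
    rw [h0, show t ⟨0, by omega⟩ = 1 by simp [t, Level.word, act_nil], one_mul]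
    exact hx

theorem testBit_maskOf (l : List ℕ) (q : ℕ) : (maskOf l).testBit q = true ↔ q ∈ l := by
  have key : ∀ (l : List ℕ) (m : ℕ),
      ((l.foldl (fun m p => m ||| 2 ^ p) m).testBit q = true ↔ m.testBit q = true ∨ q ∈ l) := by
    intro l
    induction l with
    | nil => simp
    | cons p l ih =>
      intro m
      rw [List.foldl_cons, ih, Nat.testBit_or, Nat.testBit_two_pow, Bool.or_eq_true, decide_eq_true_eq,
        List.mem_cons, @eq_comm _ q p, or_assoc]
  simpa [maskOf] using key l 0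

theorem cover (i : Fin tab.n) : ∃ (j : ℕ) (l : Level), (j, l) ∈ orbits ∧ i.val ∈ l.pts := by
  have hm : i.val ∈ orbits.flatMap fun o => o.2.pts := by
    rw [← testBit_maskOf, orbits_cover, Nat.testBit_two_pow_sub_one]
    exact decide_eq_true i.isLt
  obtain ⟨⟨j, l⟩, ho, hil⟩ := List.mem_flatMap.1 hm
  exact ⟨j, l, ho, hil⟩

theorem base_lt {j : ℕ} {l : Level} (ho : (j, l) ∈ orbits) : l.base < tab.n := by
  have hok := orbit_ok ho
  simp only [orbitOk, levelOk, Bool.and_eq_true, List.all_eq_true, Nat.blt_eq, decide_eq_true_eq] at hok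
  obtain ⟨⟨⟨⟨⟨⟨⟨⟨⟨-, hhead⟩, -⟩, -⟩, hlt⟩, -⟩, -⟩, -⟩, -⟩, -⟩ := hok
  exact hlt _ (List.mem_of_mem_head? hhead)

/-- An element of the subgroup fixing a point is a power of a distinguished element. -/
theorem fix_cases {a : M} (ha : a ∈ Asub) {i : Fin tab.n} (hi : phi a i = i) :
    ∃ j < 11, a ∈ Subgroup.zpowers (yEl j) := by
  obtain ⟨j, l, ho, hil⟩ := cover i
  obtain ⟨hj, -, hreach, -, hstab⟩ := orbit_spec ho (base_lt ho)
  obtain ⟨t, ht, e⟩ := hreach _ hil
  refine ⟨j, hj, hstab a ha ?_⟩
  have e' : phi t ⟨l.base, base_lt ho⟩ = i := Fin.ext e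
  have h1 : phi t (phi a ⟨l.base, base_lt ho⟩) = phi t ⟨l.base, base_lt ho⟩ := by
    rw [← Equiv.Perm.mul_apply, ← map_mul, A_comm ht ha, map_mul, Equiv.Perm.mul_apply, e', hi]
  exact (phi t).injective h1

/-- Every distinguished element fixes a point. -/
theorem y_fix {j : ℕ} (hj : j < 11) : ∃ i : Fin tab.n, phi (yEl j) i = i := by
  have h := y_points.1
  simp only [List.all_eq_true, List.mem_range, List.any_eq_true, Nat.beq_eq] at h
  obtain ⟨⟨j', l⟩, ho, e⟩ := h j hj
  obtain rfl : j' = j := e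
  exact ⟨⟨l.base, base_lt ho⟩,
    Fin.ext ((realised.act_apply (lt_yWord _) _).trans (orbit_spec ho (base_lt ho)).2.1)⟩

/-- The orbit of a point, as listed. -/
theorem orbOf_spec (i q : Fin tab.n) :
    q.val ∈ orbOf i.val ↔ ∃ a ∈ Asub, phi a i = q := by
  obtain ⟨j0, l0, ho0, hil0⟩ := cover i
  have hsome : (orbits.find? fun o => o.2.pts.contains i.val).isSome := by
    rw [List.find?_isSome]
    exact ⟨(j0, l0), ho0, List.contains_iff_mem.2 hil0⟩
  obtain ⟨⟨j, l⟩, hfind⟩ := Option.isSome_iff_exists.1 hsome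
  have ho := List.mem_of_find?_eq_some hfind
  have hil : i.val ∈ l.pts := List.contains_iff_mem.1 (List.find?_some hfind :)
  obtain ⟨-, -, hreach, hstay, -⟩ := orbit_spec ho (base_lt ho)
  rw [orbOf, hfind]
  obtain ⟨t, ht, e⟩ := hreach _ hil
  have e' : phi t ⟨l.base, base_lt ho⟩ = i := Fin.ext e
  constructor
  · intro hq
    obtain ⟨u, hu, eu⟩ := hreach _ hq
    refine ⟨u * t⁻¹, Subgroup.mul_mem _ hu (Subgroup.inv_mem _ ht), Fin.ext ?_⟩
    rw [← e', map_mul, Equiv.Perm.mul_apply, map_inv, Equiv.Perm.inv_def, Equiv.symm_apply_apply, eu]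
  · rintro ⟨a, ha, rfl⟩
    rw [← e', ← Equiv.Perm.mul_apply, ← map_mul]
    exact hstay _ (Subgroup.mul_mem _ ha ht)

end CfsgLib.Suz.ThreeFive
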