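import Cfsg.Agent.Lib.Suz.Perm
import Cfsg.Agent.Lib.Suz.ThreeFiveData
import Cfsg.Agent.Lib.MElevenUnique.Tables
import Cfsg.Agent.Lib.PresCert.Chain

/-!
Kernel checks for the elementary abelian subgroup of order 243 of the presented Suzuki group.
-/

set_option autoImplicit false
set_option maxRecDepth 100000
set_option maxHeartbeats 0

namespace CfsgLib.Suz.ThreeFive

open CfsgLib.PresCert

/-- The word of a generator of the subgroup. -/
def aWord (k : ℕ) : List ℕ := aWords.getD k []

/-- The word of a distinguished element. -/
def yWord (i : ℕ) : List ℕ := expand aWords (yCodes.getD i [])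

/-- Two words act alike on the base. -/
def eqS (p q : List ℕ) : Bool := eqBase tab levelsS p q

/-- The mask of a list of points. -/
def maskOf (l : List ℕ) : ℕ := l.foldl (fun m p => m ||| 2 ^ p) 0

/-- The orbit containing a point. -/
def orbOf (q : ℕ) : List ℕ :=
  ((orbits.find? fun o => o.2.pts.contains q).map fun o => o.2.pts).getD []

/-- The mask of the orbit of the first point under a conjugate of the subgroup. -/
def sigOf (h : List ℕ) : ℕ := maskOf ((orbOf (tab.walk 0 h.reverse)).map fun p => tab.walk p h)

/-- An orbit is correct. -/
def orbitOk (o : ℕ × Level) : Bool :=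
  levelOk tab [] o.2 && decide (o.2.gens = aWords) && Nat.beq o.2.pts.length 81 &&
    Nat.blt o.1 11 && Nat.beq (tab.walk o.2.base (yWord o.1)) o.2.base

theorem words_ok : wordsLt tab (aWords ++ nWords ++ hWords) = true ∧
    hWords.all (fun h => h.all fun g => Nat.blt g 7 && !(Nat.beq g 4)) = true ∧
    aWords.all (fun h => h.all fun g => Nat.blt g 7) = true ∧
    aWords.length = 5 ∧ yCodes.length = 11 ∧ nWords.length = 6 ∧ hWords.length = 112 ∧ yIx < 11 ∧
    yWord yIx = repWord 5 [3, 2, 3, 2, 1] := by
  decide +kernel

theorem a_rels : (List.range 5).all (fun i => eqS (repWord 3 (aWord i)) [] &&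
    (List.range 5).all fun j => Nat.ble j i || eqS (aWord i ++ aWord j) (aWord j ++ aWord i)) = true := by
  decide +kernel

theorem a_norm : (List.range 6).all (fun k => (List.range 5).all fun i =>
    eqS ((nWords.getD k []).reverse ++ aWord i ++ nWords.getD k [])
      (expand aWords ((conjA.getD k []).getD i []))) = true := by
  decide +kernel

theorem y_norm : (List.range 6).all (fun k => (List.range 11).all fun i =>
    eqS ((nWords.getD k []).reverse ++ yWord i ++ nWords.getD k [])
      (repWord ((conjY.getD k []).getD i 0) (yWord ((permY.getD k []).getD i 0)))) = true := by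
  decide +kernel

theorem perm_std : permY =
    (MElevenUnique.Tables.gens MElevenUnique.Tables.fs1).map (fun f => List.ofFn fun i => (f i).val) := by
  decide +kernel

theorem y_distinct : (List.range 11).all (fun i => !(eqS (yWord i) []) &&
    (List.range 11).all fun j => Nat.beq i j ||
      !(eqS (yWord i) (yWord j)) && !(eqS (yWord i) (repWord 2 (yWord j)))) = true := by
  decide +kernel

theorem y_points : (List.range 11).all (fun i => orbits.any fun o => Nat.beq o.1 i) = true ∧
    orbits.length = 22 := by
  decide +kernel

theorem orbits_ok0 : (orbits.take 6).all orbitOk = true := by decide +kernel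

theorem orbits_ok1 : ((orbits.drop 6).take 6).all orbitOk = true := by decide +kernel

theorem orbits_ok2 : ((orbits.drop 12).take 5).all orbitOk = true := by decide +kernel

theorem orbits_ok3 : (orbits.drop 17).all orbitOk = true := by decide +kernel

theorem orbits_cover : maskOf (orbits.flatMap fun o => o.2.pts) = 2 ^ 1782 - 1 := by decide +kernel

theorem levelsA_ok : levelsOk tab [] levelsA = true ∧
    (levelsA.map fun l => l.pts.length).prod = 243 ∧
    levelsA.all (fun l => l.gens.all fun w =>
      aWords.contains w || (List.range 11).any fun i => decide (w = yWord i)) = true := by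
  decide +kernel

theorem sigs_eq : hWords.map sigOf = hSigs := by decide +kernel

theorem sigs_nodup : hSigs.Nodup := by decide +kernel

end CfsgLib.Suz.ThreeFive
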